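import Cfsg.Agent.Lib.Twisted.Ree.F4Torus
import Cfsg.Agent.Lib.Twisted.Ree.Build
import Cfsg.Agent.Lib.Twisted.Ree.Perfect

/-!
The orbit data of the large Ree group and their consequences: order, Weyl group, trivial core,
perfectness.
-/

set_option autoImplicit false

namespace Cfsg.Agent.Lib.Twisted.ReeF

open Cfsg.Lie Cfsg.Agent.Lib.Chev Cfsg.Agent.Lib.Twisted Cfsg.Agent.Lib.Twisted.Core

variable {K : Type*} [Field K]

/-- The exchange of the nodes. -/
def node (i : ℕ) : ℕ := 3 - i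

theorem chk_rho : chkRho chevF4 F4.cert f4Iso.root node = true := by decide +kernel

theorem chk_classP : chkClass chevF4 F4.cert [0, 3] LP [24, 33] = true := by decide +kernel

theorem chk_classQ : chkClass chevF4 F4.cert [1, 2] LQ [25, 27, 28, 30] = true := by decide +kernel

theorem chk_commP : chkComm chevF4 F4.cert f4Iso.root LP = true := by decide +kernel

theorem chk_commQ : chkComm chevF4 F4.cert f4Iso.root LQ = true := by decide +kernel

theorem uGrp_P : Twist.uGrp chevF4 K (wperm checked_F4 LP) = rootGen chevF4 K setP := by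
  rw [Twist.uGrp, class_image checked_F4 isWord_LP (by decide) chk_classP]
  rfl

theorem uGrp_Q : Twist.uGrp chevF4 K (wperm checked_F4 LQ) = rootGen chevF4 K setQ := by
  rw [Twist.uGrp, class_image checked_F4 isWord_LQ (by decide) chk_classQ]
  rfl

theorem cls_nP : Cls (F := K) rooted_F4 (wperm checked_F4 LP) ((nP (K := K) : ↥(chevF4.group K)) : GL chevF4.Idx K) :=
  ⟨LP, isWord_LP, rfl, 1, one_mem _, by rw [mul_one]; exact coe_nP⟩

theorem cls_nQ : Cls (F := K) rooted_F4 (wperm checked_F4 LQ) ((nQ (K := K) : ↥(chevF4.group K)) : GL chevF4.Idx K) :=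
  ⟨LQ, isWord_LQ, rfl, 1, one_mem _, by rw [mul_one]; exact coe_nQ⟩

/-- The orbit words. -/
def orbs : Fin 2 → List ℕ := ![LP, LQ]

/-- The orbits on the nodes. -/
def orbJ : Fin 2 → Finset ℕ := ![{0, 3}, {1, 2}]

section

variable [CharP K 2] {m : ℕ} {σ : ↥(chevF4.group K) →* ↥(chevF4.group K)} (hσ : IsReeSigma (2 ^ m) σ)

omit [CharP K 2] in
theorem lam_neg : ∀ i < chevF4.rank, lam (2 ^ m) (ng chevF4 (chevF4.simple i)) = lam (2 ^ m) (chevF4.simple i) := by
  have h : ∀ i < chevF4.rank, f4Iso.expo (ng chevF4 (chevF4.simple i)) = f4Iso.expo (chevF4.simple i) := by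
    decide +kernel
  intro i hi
  rw [lam, lam, h i hi]

theorem lam_odd : ∀ i < chevF4.rank, (-1 : K) ^ lam (2 ^ m) (chevF4.simple i) = -1 := fun i _ => by
  rw [neg_eq, one_pow]

/-- The twist of `F₄(K)`. -/
noncomputable def twist : Twist chevF4 F4.cert K := reeTwist rooted_F4 hσ chk_rho lam_neg lam_odd

variable (he : ∀ x : K, x ^ (2 * (2 ^ m * 2 ^ m)) = x)
include hσ he

omit [CharP K 2] in
theorem card_fixed_P : Nat.card ↥(rootGen chevF4 K setP ⊓ fixSub σ) = Nat.card K := by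
  have key : ∀ t : K, (pairU (2 ^ m) t : GL chevF4.Idx K) ∈ rootGen chevF4 K setP ⊓ fixSub σ := fun t =>
    ⟨pairU_mem_set _ t, mem_fixSub.2 (pairU_fixed hσ he t)⟩
  refine (Nat.card_congr (Equiv.ofBijective (fun t => (⟨_, key t⟩ : ↥(rootGen chevF4 K setP ⊓ fixSub σ)))
    ⟨fun x y h => ?_, fun g => ?_⟩)).symm
  · have h' : pairU (2 ^ m) x = pairU (2 ^ m) y := Subtype.ext (Subtype.mk.inj h)
    rw [pairU_eq, pairU_eq] at h'
    exact (srtP_injective h').1
  · obtain ⟨t, ht⟩ := exists_pairU hσ (g := ⟨g.1, fixSub_le σ g.2.2⟩) g.2.1 (mem_fixSub.1 g.2.2)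
    exact ⟨t, Subtype.ext (congrArg Subtype.val ht).symm⟩

theorem card_fixed_Q : Nat.card ↥(rootGen chevF4 K setQ ⊓ fixSub σ) = Nat.card K ^ 2 := by
  have key : ∀ x : K × K, (classU (2 ^ m) x.1 x.2 : GL chevF4.Idx K) ∈ rootGen chevF4 K setQ ⊓ fixSub σ :=
    fun x => ⟨classU_mem_set _ _ _, mem_fixSub.2 (classU_fixed hσ he rfl _ _)⟩
  rw [sq, ← Nat.card_prod]
  refine (Nat.card_congr (Equiv.ofBijective (fun x => (⟨_, key x⟩ : ↥(rootGen chevF4 K setQ ⊓ fixSub σ)))
    ⟨fun x y h => ?_, fun g => ?_⟩)).symm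
  · have h' : classU (2 ^ m) x.1 x.2 = classU (2 ^ m) y.1 y.2 := Subtype.ext (Subtype.mk.inj h)
    rw [classU_eq, classU_eq] at h'
    obtain ⟨h1, -, h3, -⟩ := srtQ_injective h'
    exact Prod.ext h1 h3
  · obtain ⟨t, u, ht⟩ := exists_classU hσ (g := ⟨g.1, fixSub_le σ g.2.2⟩) g.2.1 (mem_fixSub.1 g.2.2)
    exact ⟨(t, u), Subtype.ext (congrArg Subtype.val ht).symm⟩

variable [Fintype K]

/-- The orbit data. -/
noncomputable def orbitSys : OrbitSys (twist hσ) (Fin 2) where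
  G := twistedF4 K (2 ^ m)
  J := orbJ
  word := orbs
  J_lt := (by decide : ∀ j, orbJ j ⊆ Finset.range 4)
  J_nonempty := (by decide : ∀ j, (orbJ j).Nonempty)
  J_inj := (by decide : Function.Injective orbJ)
  J_cover := (by decide : ∀ i < 4, ∃ j, i ∈ orbJ j)
  J_node := (by decide : ∀ j, ∀ i ∈ orbJ j, node i ∈ orbJ j)
  J_trans j i hi i' hi' := by
    have h : ∀ j, ∀ i ∈ orbJ j, ∀ i' ∈ orbJ j, node^[0] i = i' ∨ node^[1] i = i' := by decide
    exact (h j i hi i' hi').elim (fun e => ⟨0, e⟩) (fun e => ⟨1, e⟩)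
  word_mem := (by decide : ∀ j, ∀ i ∈ orbs j, i ∈ orbJ j)
  word_invs j r := by
    fin_cases j
    · simpa [orbs, orbJ] using class_invs checked_F4 isWord_LP chk_classP r
    · simpa [orbs, orbJ] using class_invs checked_F4 isWord_LQ chk_classQ r
  word_sq j := by
    fin_cases j
    · exact class_sq checked_F4 isWord_LP chk_classP
    · exact class_sq checked_F4 isWord_LQ chk_classQ
  word_comm j := by
    fin_cases j
    · exact reeTwist_comm rooted_F4 hσ chk_rho lam_neg lam_odd isWord_LP chk_commP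
    · exact reeTwist_comm rooted_F4 hσ chk_rho lam_neg lam_odd isWord_LQ chk_commQ
  G_le := le_fixSub hσ he
  unip j := by
    intro g hg
    fin_cases j
    · have h1 : g ∈ rootGen chevF4 K setP := by rw [← uGrp_P]; exact hg.1
      obtain ⟨t, e⟩ := exists_pairU hσ (g := ⟨g, fixSub_le σ hg.2⟩) h1 (mem_fixSub.1 hg.2)
      rw [show g = (pairU (2 ^ m) t : GL chevF4.Idx K) from congrArg Subtype.val e]
      exact pairU_mem t
    · have h1 : g ∈ rootGen chevF4 K setQ := by rw [← uGrp_Q]; exact hg.1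
      obtain ⟨t, u, e⟩ := exists_classU hσ (g := ⟨g, fixSub_le σ hg.2⟩) h1 (mem_fixSub.1 hg.2)
      rw [show g = (classU (2 ^ m) t u : GL chevF4.Idx K) from congrArg Subtype.val e]
      exact classU_mem t u
  rep j := by
    fin_cases j
    · exact ⟨_, nP_mem, 1, one_mem _, by rw [mul_one]; exact coe_nP⟩
    · exact ⟨_, nQ_mem, 1, one_mem _, by rw [mul_one]; exact coe_nQ⟩
  torus := by
    rintro g ⟨h1, h2⟩
    obtain ⟨s, t, e⟩ := fixed_torus hσ g h1 h2
    rw [e]
    exact ct_mem hσ he s t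
  d := 2
  d_ne := two_ne_zero
  card_unip j := by
    fin_cases j
    · show Nat.card ↥(Twist.uGrp chevF4 K (wperm checked_F4 LP) ⊓ fixSub σ) ^ 2 =
        Nat.card K ^ (invs (wperm checked_F4 LP)).card
      rw [uGrp_P, card_fixed_P hσ he, class_card checked_F4 isWord_LP (by decide) (by decide) chk_classP]
      rfl
    · show Nat.card ↥(Twist.uGrp chevF4 K (wperm checked_F4 LQ) ⊓ fixSub σ) ^ 2 =
        Nat.card K ^ (invs (wperm checked_F4 LQ)).card
      rw [uGrp_Q, card_fixed_Q hσ he, class_card checked_F4 isWord_LQ (by decide) (by decide) chk_classQ,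
        ← pow_mul]
      rfl

/-- Orbit words of the fixed Weyl elements. -/
def els : List (List ℕ) :=
  [[0, 1, 0, 1, 0], [1, 0, 1, 0], [1, 0, 1, 0, 1, 0], [0, 1, 0], [0, 1, 0, 1, 0, 1, 0], [1, 0],
    [0, 1, 0, 1, 0, 1, 0, 1], [0], [1, 0, 1, 0, 1, 0, 1], [], [0, 1, 0, 1, 0, 1], [1], [1, 0, 1, 0, 1],
    [0, 1], [0, 1, 0, 1], [1, 0, 1]]

/-- Targets. -/
def tgt : List (List ℕ) :=
  [[14, 10], [15, 12], [12, 8], [13, 14], [10, 6], [11, 15], [8, 4], [9, 13], [6, 2], [7, 11], [4, 0],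
    [5, 9], [2, 1], [3, 7], [0, 3], [1, 5]]

omit hσ he [CharP K 2] [Fintype K] in
theorem chkEnum_F4 : chkEnum chevF4 F4.cert [LP, LQ] els 9 tgt = true := by decide +kernel

theorem card_pos : Nat.card ↥(chevF4.posUnipotent K ⊓ twistedF4 K (2 ^ m)) = Nat.card K ^ 12 := by
  have e : Nat.card ↥(chevF4.posUnipotent K ⊓ twistedF4 K (2 ^ m)) ^ 2 = Nat.card K ^ 24 :=
    (orbitSys hσ he).card_pos
  rw [show 24 = 12 * 2 from rfl, pow_mul] at e
  exact Nat.pow_left_injective two_ne_zero e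

omit [Fintype K] in
theorem card_diag : Nat.card ↥(chevF4.diagonalSubgroup K ⊓ twistedF4 K (2 ^ m)) = Nat.card Kˣ ^ 2 := by
  have hmem : ∀ s : Kˣ × Kˣ, (ct (2 ^ m) s.1 s.2 : GL chevF4.Idx K) ∈
      chevF4.diagonalSubgroup K ⊓ twistedF4 K (2 ^ m) := fun s =>
    ⟨by rw [SetLike.mem_coe, rooted_F4.diagonalSubgroup_eq]; exact ⟨_, rfl⟩, ct_mem hσ he s.1 s.2⟩
  rw [sq, ← Nat.card_prod]
  refine (Nat.card_congr (Equiv.ofBijective
    (fun s => (⟨_, hmem s⟩ : ↥(chevF4.diagonalSubgroup K ⊓ twistedF4 K (2 ^ m))))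
    ⟨fun s s' h => ?_, fun g => ?_⟩)).symm
  · obtain ⟨-, -, h3, h4⟩ := quad_inj (congrArg Subtype.val h)
    exact Prod.ext h4 h3
  · obtain ⟨s, t, hs⟩ := fixed_torus hσ g.1 g.2.1 (le_fixSub hσ he g.2.2)
    exact ⟨(s, t), Subtype.ext hs.symm⟩

theorem card_eq : Nat.card ↥(twistedF4 K (2 ^ m)) = Nat.card K ^ 12 * Nat.card Kˣ ^ 2 *
    ([14, 12, 18, 8, 20, 6, 24, 2, 22, 0, 18, 4, 16, 6, 12, 10].map fun n => Nat.card K ^ (n / 2)).sum := by
  set S := orbitSys hσ he
  have hlens : els.map (fun L => invLen chevF4 F4.cert (orbWord [LP, LQ] L)) =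
      [14, 12, 18, 8, 20, 6, 24, 2, 22, 0, 18, 4, 16, 6, 12, 10] := by decide +kernel
  have h1 := S.card_eq_sum (orb := [LP, LQ]) rfl chkEnum_F4 (fun n => Nat.card K ^ (n / 2)) fun L hL => by
    have hmem : invLen chevF4 F4.cert (orbWord [LP, LQ] L) ∈
        [14, 12, 18, 8, 20, 6, 24, 2, 22, 0, 18, 4, 16, 6, 12, 10] := hlens ▸ List.mem_map.2 ⟨L, hL, rfl⟩
    have heven : invLen chevF4 F4.cert (orbWord [LP, LQ] L) % 2 = 0 :=
      (by decide : ∀ n ∈ [14, 12, 18, 8, 20, 6, 24, 2, 22, 0, 18, 4, 16, 6, 12, 10], n % 2 = 0) _ hmem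
    show Nat.card K ^ _ = (Nat.card K ^ _) ^ 2
    rw [← pow_mul]
    congr 1
    omega
  rw [← Function.comp_def (fun n => Nat.card K ^ (n / 2)), ← List.map_map, hlens] at h1
  have hb : Nat.card ↥(chevF4.borelSubgroup K ⊓ twistedF4 K (2 ^ m)) =
      Nat.card ↥(chevF4.posUnipotent K ⊓ twistedF4 K (2 ^ m)) *
        Nat.card ↥(chevF4.diagonalSubgroup K ⊓ twistedF4 K (2 ^ m)) := S.card_borel
  refine Eq.trans h1 ?_
  show Nat.card ↥(chevF4.borelSubgroup K ⊓ twistedF4 K (2 ^ m)) * _ = _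
  rw [hb, card_pos hσ he, card_diag hσ he]

omit [Fintype K] in
theorem hasLead : HasLead (orbitSys hσ he) := by
  intro i hi
  have key : ∀ (p : ℕ) (hp : p < chevF4.nroots) (g0 : ↥(chevF4.group K)) (w : List (ℕ × K)),
      (g0 : GL chevF4.Idx K) ∈ twistedF4 K (2 ^ m) → (∀ x ∈ w, x.1 ∈ posSet chevF4 \ {p}) →
      g0 = xG checked_F4 p 1 * wordG checked_F4 w →
      ∃ t : K, t ≠ 0 ∧ ∃ a ∈ rootGen chevF4 K (posSet chevF4 \ {p}),
        xGL checked_F4 K hp t * a ∈ twistedF4 K (2 ^ m) := by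
    intro p hp g0 w hg0 hw e
    obtain ⟨g, hg, eg⟩ := checked_F4.exists_wordGL (S := posSet chevF4 \ {p}) (fun r hr => hr.1.2) w hw
    refine ⟨1, one_ne_zero, g, hg, ?_⟩
    have h1 : xGL checked_F4 K hp 1 * g = (g0 : GL chevF4.Idx K) := by
      rw [e, Subgroup.coe_mul, exists_wordG checked_F4 eg, xG, dif_pos hp]
    rw [h1]
    exact hg0
  have hmem : ∀ r : ℕ, 24 ≤ r → r ≤ 47 → r ∈ posSet chevF4 := fun r h1 h2 => ⟨h1, Nat.lt_succ_of_le h2⟩
  have hi4 : i < 4 := hi
  interval_cases i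
  · refine key 33 (by decide) (pairU (2 ^ m) 1) [(24, 1)] (pairU_mem 1) ?_ ?_
    · simp only [List.forall_mem_cons]; exact ⟨⟨hmem _ (by omega) (by omega), by simp⟩, by simp⟩
    · simp [pairU, f4PairWord, wordG, f4p1, f4p4]
  · refine key 27 (by decide) (classU (2 ^ m) 1 0) [(25, 1), (28, 1), (30, 0)] (classU_mem 1 0) ?_ ?_
    · simp only [List.forall_mem_cons]
      exact ⟨⟨hmem _ (by omega) (by omega), by simp⟩, ⟨hmem _ (by omega) (by omega), by simp⟩,
        ⟨hmem _ (by omega) (by omega), by simp⟩, by simp⟩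
    · simp [classU, b2ClassWord, wordG, f4a, f4b, f4ab, f4aab]
  · refine key 25 (by decide) (classU (2 ^ m) 1 0) [(27, 1), (28, 0), (30, 1)] (classU_mem 1 0) ?_ ?_
    · simp only [List.forall_mem_cons]
      exact ⟨⟨hmem _ (by omega) (by omega), by simp⟩, ⟨hmem _ (by omega) (by omega), by simp⟩,
        ⟨hmem _ (by omega) (by omega), by simp⟩, by simp⟩
    · rw [classU_eq]
      simp [srtQ, wordG]
  · refine key 24 (by decide) (pairU (2 ^ m) 1) [(33, 1)] (pairU_mem 1) ?_ ?_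
    · simp only [List.forall_mem_cons]; exact ⟨⟨hmem _ (by omega) (by omega), by simp⟩, by simp⟩
    · rw [pairU_eq]
      simp [srtP, wordG]

omit [Fintype K] in
theorem noSplit : NoSplit (orbitSys hσ he) := by
  have hne : ∀ a b : Fin 2, a ≠ b →
      wKey chevF4 F4.cert (orbs a ++ orbs b) ≠ wKey chevF4 F4.cert (orbs b ++ orbs a) := by
    decide +kernel
  intro P hP hPc
  obtain ⟨j, hj⟩ := hP
  obtain ⟨k, hk⟩ := hPc
  refine ⟨j, hj, k, hk, fun e => hne j k (fun e' => hk (e' ▸ hj)) ?_⟩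
  have h := rooted_F4.toChecked
  have e' : wperm h (orbs j ++ orbs k) = wperm h (orbs k ++ orbs j) := by
    rw [wperm_append, wperm_append]; exact e
  have hw : ∀ a, IsWord chevF4 (orbs a) := fun a => (orbitSys hσ he).isWord a
  refine congrArg (List.foldr _ 0) (List.map_congr_left fun i hi => ?_)
  have := congrArg (fun w : Equiv.Perm (Fin chevF4.nroots) => (w (h.sroot (List.mem_range.1 hi))).val) e'
  simpa [h.wperm_val ((hw j).append (hw k)), h.wperm_val ((hw k).append (hw j)), Checked.sroot] using this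

omit hσ he [CharP K 2] [Fintype K] in
theorem conj_word (c : ℕ → Kˣ) (w : List (ℕ × K)) (hw : ∀ p ∈ w, p.1 < chevF4.nroots) :
    torusG rooted_F4 c * wordG checked_F4 w * (torusG rooted_F4 c)⁻¹ =
      wordG checked_F4 (w.map fun p => (p.1, (torusFun chevF4 c p.1 : K) * p.2)) :=
  conj_wordG checked_F4 (π := id) (c := fun r => (torusFun chevF4 c r : K))
    (fun r hr t => Subtype.ext (by
      simp only [Subgroup.coe_mul, Subgroup.coe_inv, coe_torusG, xG, dif_pos hr, id]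
      exact checked_F4.conj_x hr t)) w hw

theorem commutator_eq_top (hm : 1 ≤ m) (hK : Fintype.card K = 2 ^ (2 * m + 1)) :
    commutator ↥(twistedF4 K (2 ^ m)) = ⊤ := by
  set S := orbitSys hσ he
  obtain ⟨g, hg⟩ := IsCyclic.exists_ofOrder_eq_natCard (α := Kˣ)
  set e := 2 ^ m with hedef
  have he2 : 2 ≤ e := (Nat.pow_le_pow_right (by norm_num) hm).trans' (by norm_num)
  have hN : Nat.card Kˣ + 1 = 2 * (e * e) := by
    rw [Nat.card_units, Nat.card_eq_fintype_card, hK, Nat.sub_add_cancel (Nat.one_le_pow _ _ (by norm_num)), hedef]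
    ring
  have he2' : (2 : ℤ) ≤ (e : ℤ) := by exact_mod_cast he2
  have hz : ∀ (n : ℤ) (y : K), n ≠ 0 → |n| ≤ 2 * (e : ℤ) → ((g ^ n : Kˣ) : K) * y = y → y = 0 := by
    intro n y hn hb h
    by_contra hy
    have h1 : g ^ n = 1 := Units.ext (by simpa using (mul_eq_right₀ hy).1 h)
    rw [← orderOf_dvd_iff_zpow_eq_one, hg] at h1
    have h3 : ((Nat.card Kˣ : ℕ) : ℤ) + 1 = 2 * ((e : ℤ) * e) := by exact_mod_cast hN
    exact hn (Int.eq_zero_of_abs_lt_dvd h1 (by nlinarith))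
  have hχ : ∀ (s t : Kˣ) (r : ℕ), torusFun chevF4 (quad (s ^ e) (t ^ e) t s) r =
      s ^ ((e : ℤ) * chevF4.cartan 0 r + chevF4.cartan 3 r) *
      t ^ ((e : ℤ) * chevF4.cartan 1 r + chevF4.cartan 2 r) := by
    intro s t r
    obtain ⟨q0, q1, q2, q3⟩ := quad_vals (s ^ e) (t ^ e) t s
    rw [torusFun, show chevF4.rank = 4 from rfl, Finset.prod_range_succ, Finset.prod_range_succ,
      Finset.prod_range_succ, Finset.prod_range_one, q0, q1, q2, q3, zpow_add, zpow_add, zpow_mul, zpow_mul,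
      zpow_natCast, zpow_natCast]
    simp only [mul_comm, mul_left_comm, mul_assoc]
  refine S.commutator_eq_top ?_ fun j => ?_
  · intro x hx
    refine (Subgroup.closure_le _).2 ?_ hx
    rintro y ⟨w, (⟨t, rfl | rfl⟩ | ⟨t, u, rfl | rfl⟩), ey⟩ <;> rw [exists_wordG checked_F4 ey]
    · refine Subgroup.subset_closure ⟨(0 : Fin 2), _, ⟨?_, pairU_mem (m := m) t⟩, Or.inl rfl⟩
      show _ ∈ Twist.uGrp chevF4 K (wperm checked_F4 LP)
      rw [uGrp_P]
      exact pairU_mem_set _ t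
    · rw [show wordG checked_F4 (f4PairWord e f4m1 f4m4 t) = pairV e t from rfl, pairV_eq_conj, Subgroup.coe_mul,
        Subgroup.coe_mul, Subgroup.coe_inv]
      refine conj_rep_mem_closure S (0 : Fin 2) nP_mem cls_nP ⟨?_, pairU_mem (m := m) t⟩
      show _ ∈ Twist.uGrp chevF4 K (wperm checked_F4 LP)
      rw [uGrp_P]
      exact pairU_mem_set _ t
    · refine Subgroup.subset_closure ⟨(1 : Fin 2), _, ⟨?_, classU_mem (m := m) t u⟩, Or.inl rfl⟩
      show _ ∈ Twist.uGrp chevF4 K (wperm checked_F4 LQ)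
      rw [uGrp_Q]
      exact classU_mem_set _ t u
    · rw [show wordG checked_F4 (b2ClassWord e f4ma f4mb f4mab f4maab t u) = classV e t u from rfl, classV_eq_conj,
        Subgroup.coe_mul, Subgroup.coe_mul, Subgroup.coe_inv]
      refine conj_rep_mem_closure S (1 : Fin 2) nQ_mem cls_nQ ⟨?_, classU_mem (m := m) t u⟩
      show _ ∈ Twist.uGrp chevF4 K (wperm checked_F4 LQ)
      rw [uGrp_Q]
      exact classU_mem_set _ t u
  · fin_cases j
    · intro u hu
      refine mem_commutator_of_freeTorus S (0 : Fin 2) (c := (ct e g 1 : GL chevF4.Idx K)) ?_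
        (ct_mem hσ he g 1) ?_ u hu
      · rw [rooted_F4.diagonalSubgroup_eq]; exact ⟨_, rfl⟩
      rintro x ⟨hx1, hx2⟩ hxc
      have hxP : x ∈ rootGen chevF4 K setP := by rw [← uGrp_P]; exact hx1
      obtain ⟨p, q, rfl⟩ := exists_srtP hxP
      have h1 : srtP ((torusFun chevF4 (quad (g ^ e) (1 ^ e) 1 g) 24 : K) * p)
          ((torusFun chevF4 (quad (g ^ e) (1 ^ e) 1 g) 33 : K) * q) = srtP p q := by
        refine Eq.trans ?_ (Subtype.ext hxc : ct e g 1 * srtP p q * (ct e g 1)⁻¹ = srtP p q)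
        rw [srtP, srtP, ct, conj_word _ _ (by simp only [List.forall_mem_cons]; exact ⟨by decide, by decide, by simp⟩)]
        rfl
      obtain ⟨e1, e2⟩ := srtP_injective h1
      rw [hχ, one_zpow, mul_one] at e1 e2
      have c0 : chevF4.cartan 0 24 = 0 ∧ chevF4.cartan 3 24 = 2 ∧ chevF4.cartan 0 33 = 2 ∧
          chevF4.cartan 3 33 = 0 := by decide +kernel
      obtain ⟨d1, d2, d3, d4⟩ := c0
      rw [d1, d2] at e1; rw [d3, d4] at e2
      have z1 := hz _ _ (by omega) (by rw [abs_le]; omega) e1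
      have z2 := hz _ _ (by omega) (by rw [abs_le]; omega) e2
      subst z1 z2
      simp [srtP, wordG, xG_zero checked_F4 (show 24 < chevF4.nroots by decide),
        xG_zero checked_F4 (show 33 < chevF4.nroots by decide)]
    · intro u hu
      refine mem_commutator_of_freeTorus S (1 : Fin 2) (c := (ct e 1 g : GL chevF4.Idx K)) ?_
        (ct_mem hσ he 1 g) ?_ u hu
      · rw [rooted_F4.diagonalSubgroup_eq]; exact ⟨_, rfl⟩
      rintro x ⟨hx1, hx2⟩ hxc
      have hxQ : x ∈ rootGen chevF4 K setQ := by rw [← uGrp_Q]; exact hx1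
      obtain ⟨p, q, r, s, rfl⟩ := exists_srtQ hxQ
      set c := quad ((1 : Kˣ) ^ e) (g ^ e) g 1 with hc
      have h1 : srtQ ((torusFun chevF4 c 25 : K) * p) ((torusFun chevF4 c 27 : K) * q)
          ((torusFun chevF4 c 28 : K) * r) ((torusFun chevF4 c 30 : K) * s) = srtQ p q r s := by
        refine Eq.trans ?_ (Subtype.ext hxc : ct e 1 g * srtQ p q r s * (ct e 1 g)⁻¹ = srtQ p q r s)
        rw [srtQ, srtQ, ct, ← hc, conj_word _ _
          (by simp only [List.forall_mem_cons]; exact ⟨by decide, by decide, by decide, by decide, by simp⟩)]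
        rfl
      obtain ⟨e1, e2, e3, e4⟩ := srtQ_injective h1
      rw [hc, hχ, one_zpow, one_mul] at e1 e2 e3 e4
      have c0 : chevF4.cartan 1 25 = -2 ∧ chevF4.cartan 2 25 = 2 ∧ chevF4.cartan 1 27 = 2 ∧
          chevF4.cartan 2 27 = -1 ∧ chevF4.cartan 1 28 = 0 ∧ chevF4.cartan 2 28 = 1 ∧
          chevF4.cartan 1 30 = 2 ∧ chevF4.cartan 2 30 = 0 := by decide +kernel
      obtain ⟨d1, d2, d3, d4, d5, d6, d7, d8⟩ := c0
      rw [d1, d2] at e1; rw [d3, d4] at e2; rw [d5, d6] at e3; rw [d7, d8] at e4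
      have z1 := hz _ _ (by omega) (by rw [abs_le]; omega) e1
      have z2 := hz _ _ (by omega) (by rw [abs_le]; omega) e2
      have z3 := hz _ _ (by omega) (by rw [abs_le]; omega) e3
      have z4 := hz _ _ (by omega) (by rw [abs_le]; omega) e4
      subst z1 z2 z3 z4
      simp [srtQ, wordG, xG_zero checked_F4 (show 25 < chevF4.nroots by decide),
        xG_zero checked_F4 (show 27 < chevF4.nroots by decide), xG_zero checked_F4 (show 28 < chevF4.nroots by decide),
        xG_zero checked_F4 (show 30 < chevF4.nroots by decide)]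

end

end Cfsg.Agent.Lib.Twisted.ReeF
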