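import Cfsg.Agent.Lib.Twisted.Ree.F4Two

/-!
The derived subgroup of `²F₄(2)` has index two and is simple.
-/

set_option autoImplicit false
set_option maxHeartbeats 400000
set_option maxRecDepth 4096

namespace Cfsg.Agent.Lib.Twisted.ReeF

open Cfsg.Lie Cfsg.Agent.Lib.Chev Cfsg.Agent.Lib.Twisted Cfsg.Agent.Lib.Twisted.Core

variable {K : Type*} [Field K] [Fintype K] [CharP K 2]

/-- The images of the roots under the representative of a class, as a word. -/
def permW (L : List ℕ) (w : List (ℕ × ℤ)) : List (ℕ × ℤ) := w.map fun q => (perm F4.cert L q.1, q.2)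

omit [Fintype K] in
theorem conj_castW {L : List ℕ} (hL : IsWord chevF4 L) (w : List (ℕ × ℤ)) (hw : ∀ q ∈ w, q.1 < chevF4.nroots) :
    wordG checked_F4 (castW K (nInts chevF4 L)) * wordG checked_F4 (castW K w) *
      (wordG checked_F4 (castW K (nInts chevF4 L)))⁻¹ = wordG checked_F4 (castW K (permW L w)) := by
  rw [conj_wordG checked_F4 (π := perm F4.cert L) (c := fun _ => 1) (fun r hr t => n_conj hL r hr t) _
    (fun p hp => by obtain ⟨q, hq, rfl⟩ := List.mem_map.1 hp; exact hw q hq)]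
  simp [castW, permW, List.map_map, Function.comp_def]

/-- The word of the orthogonal pair at `1`. -/
def wA : List (ℕ × ℤ) := [(33, 1), (24, 1)]

/-- The word of the class at `(1, 0)`. -/
def wB : List (ℕ × ℤ) := [(27, 1), (25, 1), (28, 1), (30, 0)]

/-- The word of the class at `(0, 1)`. -/
def wC : List (ℕ × ℤ) := [(27, 0), (25, 0), (28, 1), (30, 1)]

theorem chk_comm :
    constWordsEq chevF4 F4.cert 2 (wB ++ permW LQ (permW LP wB)) (permW LQ (permW LP wB) ++ wB ++ permW LQ wA) = true ∧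
    constWordsEq chevF4 F4.cert 2 (wA ++ permW LP (permW LQ (permW LP wB)))
      (permW LP (permW LQ (permW LP wB)) ++ wA ++ permW LP wC) = true ∧
    constWordsEq chevF4 F4.cert 2 (wB ++ wB) wC = true ∧
    constWordsEq chevF4 F4.cert 2 (wB ++ wC) [(27, 1), (25, 1), (28, 0), (30, 1)] = true := by decide +kernel

theorem chk_lt : (∀ q ∈ wA, q.1 < 48) ∧ (∀ q ∈ wB, q.1 < 48) ∧ (∀ q ∈ wC, q.1 < 48) ∧
    (∀ q ∈ permW LP wB, q.1 < 48) ∧ (∀ q ∈ permW LQ (permW LP wB), q.1 < 48) := by decide +kernel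

variable (h2 : Fintype.card K = 2)

omit [Fintype K] in
theorem classU_words : pairU (2 ^ 0) (1 : K) = wordG checked_F4 (castW K wA) ∧
    classU (2 ^ 0) (1 : K) 0 = wordG checked_F4 (castW K wB) ∧
    classU (2 ^ 0) (0 : K) 1 = wordG checked_F4 (castW K wC) ∧
    classU (2 ^ 0) (1 : K) 1 = classU (2 ^ 0) (1 : K) 0 * classU (2 ^ 0) (0 : K) 1 := by
  have e1 : pairU (2 ^ 0) (1 : K) = wordG checked_F4 (castW K wA) := by
    simp [pairU, castW, wA, f4PairWord, f4p1, f4p4]
  have e2 : classU (2 ^ 0) (1 : K) 0 = wordG checked_F4 (castW K wB) := by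
    simp [classU, castW, wB, b2ClassWord, f4a, f4b, f4ab, f4aab]
  have e3 : classU (2 ^ 0) (0 : K) 1 = wordG checked_F4 (castW K wC) := by
    simp [classU, castW, wC, b2ClassWord, f4a, f4b, f4ab, f4aab]
  refine ⟨e1, e2, e3, ?_⟩
  rw [e2, e3, ← wordG_append, castW, castW, ← List.map_append, ← castW,
    wordG_const_eq checked_F4 2 chk_comm.2.2.2]
  simp [classU, castW, b2ClassWord, f4a, f4b, f4ab, f4aab, CharTwo.add_self_eq_zero]

variable (K) in
/-- The class of order four, as an element of the group. -/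
def bEl : ↥(twistedF4 K (2 ^ 0)) := ⟨(classU (2 ^ 0) (1 : K) 0 : GL chevF4.Idx K), classU_mem 1 0⟩

omit [Fintype K] [CharP K 2] in
theorem map_eq_one_of_comm {G : Subgroup (GL chevF4.Idx K)} {A : Type*} [CommGroup A] (f : ↥G →* A) {n x z y : ↥(chevF4.group K)}
    (hn : (n : GL chevF4.Idx K) ∈ G) (hx : (x : GL chevF4.Idx K) ∈ G) (hy : (y : GL chevF4.Idx K) ∈ G)
    (hz : (z : GL chevF4.Idx K) ∈ G) (e : x * y = y * x * (n * z * n⁻¹)) : f ⟨_, hz⟩ = 1 := by
  have e1 : (⟨_, hx⟩ * ⟨_, hy⟩ : ↥G) = ⟨_, hy⟩ * ⟨_, hx⟩ * (⟨_, hn⟩ * ⟨_, hz⟩ * ⟨_, hn⟩⁻¹) :=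
    Subtype.ext (by simpa using congrArg Subtype.val e)
  have e2 := congrArg f e1
  simp only [map_mul, map_inv] at e2
  rw [mul_comm (f ⟨_, hy⟩), left_eq_mul, mul_inv_cancel_comm] at e2
  exact e2

include h2

theorem zpowers_sup_commutator :
    Subgroup.zpowers ((bEl K)) ⊔ commutator ↥(twistedF4 K (2 ^ 0)) = ⊤ ∧
      Abelianization.of ((bEl K)) ^ 2 = 1 := by
  set π : ↥(twistedF4 K (2 ^ 0)) →* Abelianization ↥(twistedF4 K (2 ^ 0)) := Abelianization.of with hπ
  obtain ⟨eA, eB, eC, e11⟩ := classU_words (K := K)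
  obtain ⟨c1, c2, c3, -⟩ := chk_comm
  obtain ⟨lA, lB, lC, lPB, lQPB⟩ := chk_lt
  have hA := pairU_mem (K := K) (m := 0) 1
  have hB := classU_mem (K := K) (m := 0) 1 0
  have hC := classU_mem (K := K) (m := 0) 0 1
  have hp := nP_mem (K := K) (m := 0)
  have hq := nQ_mem (K := K) (m := 0)
  have hy : (nQ * (nP * classU (2 ^ 0) (1 : K) 0 * nP⁻¹) * nQ⁻¹ : ↥(chevF4.group K)) =
      wordG checked_F4 (castW K (permW LQ (permW LP wB))) := by
    rw [eB, nP, nQ, conj_castW isWord_LP _ lB, conj_castW isWord_LQ _ lPB]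
  have hAone : π ⟨_, hA⟩ = 1 := by
    refine map_eq_one_of_comm π (n := nQ) (x := classU (2 ^ 0) (1 : K) 0)
      (y := nQ * (nP * classU (2 ^ 0) (1 : K) 0 * nP⁻¹) * nQ⁻¹) hq hB ?_ hA ?_
    · simpa using mul_mem (mul_mem hq (mul_mem (mul_mem hp hB) (inv_mem hp))) (inv_mem hq)
    · rw [hy, eA, eB, nQ, conj_castW isWord_LQ _ lA, ← wordG_append, ← wordG_append, ← wordG_append]
      simp only [castW, ← List.map_append]
      exact wordG_const_eq checked_F4 2 c1
  have hCone : π ⟨_, hC⟩ = 1 := by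
    refine map_eq_one_of_comm π (n := nP) (x := pairU (2 ^ 0) (1 : K))
      (y := nP * (nQ * (nP * classU (2 ^ 0) (1 : K) 0 * nP⁻¹) * nQ⁻¹) * nP⁻¹) hp hA ?_ hC ?_
    · simpa using mul_mem (mul_mem hp (mul_mem (mul_mem hq (mul_mem (mul_mem hp hB) (inv_mem hp))) (inv_mem hq)))
        (inv_mem hp)
    · rw [hy, nP, conj_castW isWord_LP _ lQPB, eA, eC, conj_castW isWord_LP _ lC, ← wordG_append, ← wordG_append,
        ← wordG_append]
      simp only [castW, ← List.map_append]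
      exact wordG_const_eq checked_F4 2 c2
  refine ⟨?_, ?_⟩
  · set M := Subgroup.zpowers ((bEl K)) ⊔ commutator ↥(twistedF4 K (2 ^ 0)) with hM
    have hker : ∀ g, π g = 1 → g ∈ M := fun g hg => Subgroup.mem_sup_right (by
      rwa [← Abelianization.ker_of, MonoidHom.mem_ker])
    have hN : M.Normal := ⟨fun x hx g => by
      have : g * x * g⁻¹ = g * x * g⁻¹ * x⁻¹ * x := by group
      rw [this]
      exact mul_mem (hker _ (by simp only [map_mul, map_inv]; simp)) hx⟩
    rw [eq_top_iff]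
    intro g _
    suffices h : twistedF4 K (2 ^ 0) ≤ M.map (twistedF4 K (2 ^ 0)).subtype by
      obtain ⟨g', hg', e⟩ := h g.2
      rwa [← Subtype.ext e]
    have hmem : ∀ t : K, ∀ u : K, (pairU (2 ^ 0) t : GL chevF4.Idx K) ∈ M.map (twistedF4 K (2 ^ 0)).subtype ∧
        (classU (2 ^ 0) t u : GL chevF4.Idx K) ∈ M.map (twistedF4 K (2 ^ 0)).subtype := by
      intro t u
      have m1 : (pairU (2 ^ 0) (1 : K) : GL chevF4.Idx K) ∈ M.map (twistedF4 K (2 ^ 0)).subtype :=
        ⟨_, hker _ hAone, rfl⟩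
      have m2 : (classU (2 ^ 0) (1 : K) 0 : GL chevF4.Idx K) ∈ M.map (twistedF4 K (2 ^ 0)).subtype :=
        ⟨(bEl K), Subgroup.mem_sup_left (Subgroup.mem_zpowers _), rfl⟩
      have m3 : (classU (2 ^ 0) (0 : K) 1 : GL chevF4.Idx K) ∈ M.map (twistedF4 K (2 ^ 0)).subtype :=
        ⟨_, hker _ hCone, rfl⟩
      have z1 : pairU (2 ^ 0) (0 : K) = 1 := by
        simp [pairU, wordG, f4PairWord, f4p1, f4p4, xG_zero checked_F4 (show 33 < chevF4.nroots by decide),
          xG_zero checked_F4 (show 24 < chevF4.nroots by decide)]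
      have z2 : classU (2 ^ 0) (0 : K) 0 = 1 := by
        simp [classU, wordG, b2ClassWord, f4a, f4b, f4ab, f4aab, xG_zero checked_F4 (show 27 < chevF4.nroots by decide),
          xG_zero checked_F4 (show 25 < chevF4.nroots by decide), xG_zero checked_F4 (show 28 < chevF4.nroots by decide),
          xG_zero checked_F4 (show 30 < chevF4.nroots by decide)]
      rcases eq_zero_or_one h2 t with rfl | rfl <;> rcases eq_zero_or_one h2 u with rfl | rfl
      · rw [z1, z2]; exact ⟨one_mem _, one_mem _⟩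
      · rw [z1]; exact ⟨one_mem _, m3⟩
      · exact ⟨m1, m2⟩
      · rw [e11, Subgroup.coe_mul]; exact ⟨m1, mul_mem m2 m3⟩
    have hconj : ∀ n : ↥(chevF4.group K), (n : GL chevF4.Idx K) ∈ twistedF4 K (2 ^ 0) →
        ∀ x : ↥(chevF4.group K), (x : GL chevF4.Idx K) ∈ M.map (twistedF4 K (2 ^ 0)).subtype →
        ((n * x * n⁻¹ : ↥(chevF4.group K)) : GL chevF4.Idx K) ∈ M.map (twistedF4 K (2 ^ 0)).subtype := by
      rintro n hn x ⟨x', hx', e⟩
      exact ⟨⟨_, hn⟩ * x' * ⟨_, hn⟩⁻¹, hN.conj_mem _ hx' _, by simp [← e]⟩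
    refine (Subgroup.closure_le _).2 ?_
    rintro y ⟨w, (⟨t, rfl | rfl⟩ | ⟨t, u, rfl | rfl⟩), ey⟩ <;> rw [exists_wordG checked_F4 ey]
    · exact (hmem t 0).1
    · rw [show wordG checked_F4 (f4PairWord (2 ^ 0) f4m1 f4m4 t) = pairV (2 ^ 0) t from rfl, pairV_eq_conj]
      exact hconj _ hp _ (hmem t 0).1
    · exact (hmem t u).2
    · rw [show wordG checked_F4 (b2ClassWord (2 ^ 0) f4ma f4mb f4mab f4maab t u) = classV (2 ^ 0) t u from rfl,
        classV_eq_conj]
      exact hconj _ hq _ (hmem t u).2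
  · rw [pow_two, ← map_mul]
    refine Eq.trans (congrArg π (Subtype.ext ?_)) hCone
    show ((classU (2 ^ 0) (1 : K) 0 * classU (2 ^ 0) (1 : K) 0 : ↥(chevF4.group K)) : GL chevF4.Idx K) =
      ((classU (2 ^ 0) (0 : K) 1 : ↥(chevF4.group K)) : GL chevF4.Idx K)
    rw [eB, eC, ← wordG_append, castW, ← List.map_append, ← castW, wordG_const_eq checked_F4 2 c3]

variable {σ : ↥(chevF4.group K) →* ↥(chevF4.group K)} (hσ : IsReeSigma (2 ^ 0) σ)
include hσ

theorem bEl_not_mem : (bEl K) ∉ commutator ↥(twistedF4 K (2 ^ 0)) := by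
  intro hb
  have hU : (bEl K) ∈ posG K := uGrp_le_pos checked_F4 (wperm checked_F4 LQ) (by
    rw [uGrp_Q]; exact classU_mem_set _ _ _)
  have h1 := Abelianization.commutator_subset_ker (chiHom h2 hσ).transfer hb
  rw [MonoidHom.mem_ker, transfer_chi h2 hσ ⟨_, hU⟩] at h1
  have hv : chiHom h2 hσ ⟨_, hU⟩ = Multiplicative.ofAdd (1 : K) := by
    show Multiplicative.ofAdd (chi (classU (2 ^ 0) (1 : K) 0 : GL chevF4.Idx K)) = _
    rw [(classU_words (K := K)).2.1, (okW_sound (K := K) (w := wB) (b := 1) (by decide +kernel)).2, Int.cast_one]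
  have hodd : (posG K).index = 3 ^ 3 * 5 ^ 2 * 13 := by
    have e := (posG K).index_mul_card
    rw [card_posG h2 hσ, card_two h2 hσ] at e
    omega
  rw [hv, hodd, ← ofAdd_nsmul, nsmul_one, ofAdd_eq_one] at h1
  rw [CharP.cast_eq_zero_iff K 2] at h1
  omega

theorem index_commutator : (commutator ↥(twistedF4 K (2 ^ 0))).index = 2 := by
  obtain ⟨hsup, hsq⟩ := zpowers_sup_commutator h2
  set π : ↥(twistedF4 K (2 ^ 0)) →* Abelianization ↥(twistedF4 K (2 ^ 0)) := Abelianization.of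
  have hπb : π ((bEl K)) ≠ 1 := fun h => bEl_not_mem h2 hσ (by
    rwa [← Abelianization.ker_of, MonoidHom.mem_ker])
  have htop : Subgroup.zpowers (π ((bEl K))) = ⊤ := by
    have h := congrArg (Subgroup.map π) hsup
    rwa [Subgroup.map_sup, MonoidHom.map_zpowers,
      Subgroup.map_top_of_surjective _ (show Function.Surjective π from QuotientGroup.mk'_surjective _),
      (Subgroup.map_eq_bot_iff _).2 (Abelianization.ker_of _).ge, sup_bot_eq] at h
  show Nat.card (Abelianization ↥(twistedF4 K (2 ^ 0))) = 2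
  rw [← Subgroup.card_top, ← htop, Nat.card_zpowers]
  exact orderOf_eq_prime hsq hπb

theorem card_commutator : Nat.card ↥(commutator ↥(twistedF4 K (2 ^ 0))) = 2 ^ 11 * 3 ^ 3 * 5 ^ 2 * 13 := by
  have e := (commutator ↥(twistedF4 K (2 ^ 0))).index_mul_card
  rw [index_commutator h2 hσ, card_two h2 hσ] at e
  omega

theorem normal_cases (H : Subgroup ↥(twistedF4 K (2 ^ 0))) (hH : H.Normal) :
    H = ⊥ ∨ commutator ↥(twistedF4 K (2 ^ 0)) ≤ H := by
  refine (@normal_eq_bot_or_surjective _ _ (orbitSys hσ (pow_theta_two h2)).bnPair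
    ((orbitSys hσ (pow_theta_two h2)).irreducible (noSplit hσ (pow_theta_two h2)))
    ((orbitSys hσ (pow_theta_two h2)).normalCore_eq_bot (hasLead hσ (pow_theta_two h2))) H hH).imp_right
      fun hsurj => ?_
  have hB2 : IsPGroup 2 ↥((chevF4.borelSubgroup K ⊓ twistedF4 K (2 ^ 0)).subgroupOf (twistedF4 K (2 ^ 0))) := by
    refine IsPGroup.of_card (n := 12) ?_
    rw [Nat.card_congr (Subgroup.subgroupOfEquivOfLe inf_le_right).toEquiv, borel_two h2,
      card_pos hσ (pow_theta_two h2), Nat.card_eq_fintype_card, h2]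
  have : Fact (Nat.Prime 2) := ⟨Nat.prime_two⟩
  exact commutator_le_of_pGroup_quotient (zpowers_sup_commutator h2).1 H (hB2.of_surjective _ hsurj)

theorem simple_commutator : IsSimpleGroup ↥(commutator ↥(twistedF4 K (2 ^ 0))) ∧
    ¬ IsMulCommutative ↥(commutator ↥(twistedF4 K (2 ^ 0))) := by
  have hcard := card_commutator h2 hσ
  have hsimple : IsSimpleGroup ↥(commutator ↥(twistedF4 K (2 ^ 0))) :=
    isSimpleGroup_of_index_two (index_commutator h2 hσ) (normal_cases h2 hσ) (p := 13) (by norm_num)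
      (by rw [hcard]; norm_num) (by rw [hcard]; norm_num)
  refine ⟨hsimple, fun hc => ?_⟩
  have hp : (Nat.card ↥(commutator ↥(twistedF4 K (2 ^ 0)))).Prime := by
    open scoped IsMulCommutative in exact IsSimpleGroup.prime_card
  rw [hcard] at hp
  norm_num at hp

end Cfsg.Agent.Lib.Twisted.ReeF
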