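import Cfsg.Agent.Lib.Twisted.Ree.G2Torus

/-!
The group law in sorted coordinates in characteristic 3, cubes, and the action of the fixed torus
on the unipotent subgroup of the small Ree group.
-/

set_option autoImplicit false

namespace Cfsg.Agent.Lib.Twisted.ReeG

open Cfsg.Lie Cfsg.Agent.Lib.Chev Cfsg.Agent.Lib.Twisted

variable {K : Type*} [Field K]

local notation "X" => xG (K := K) checked_G2

theorem push_add {r : ℕ} (hr : r < chevG2.nroots) (a b : K) (z : ↥(chevG2.group K)) :
    X r a * (X r b * z) = X r (a + b) * z := by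
  rw [← mul_assoc, xG_add checked_G2 hr]

theorem push_of_commute {r s : ℕ} {a b : K} (h : Commute (X r a) (X s b)) (z : ↥(chevG2.group K)) :
    X s b * (X r a * z) = X r a * (X s b * z) := by
  rw [← mul_assoc, ← h.eq, mul_assoc]

section

variable [CharP K 3]

theorem push_7_6 (a b : K) (z : ↥(chevG2.group K)) : X 7 a * (X 6 b * z) =
    X 6 b * (X 7 a * (X 8 (-(b * a)) * (X 9 (-(b * a ^ 2)) * (X 10 (b * a ^ 3) * (X 11 (b ^ 2 * a ^ 3) * z))))) := by
  rw [← mul_assoc, swap_6_7]
  simp only [mul_assoc]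

theorem push_8_7 (a b : K) (z : ↥(chevG2.group K)) :
    X 8 a * (X 7 b * z) = X 7 b * (X 8 a * (X 9 (-(b * a)) * z)) := by
  rw [← mul_assoc, xG_comm checked_G2 (r := 7) (s := 8) (by decide) (by decide)
    (T := [(9, -2, 1, 1), (10, -3, 2, 1), (11, 3, 1, 2)]) (by decide +kernel) (by decide) (by decide) b a]
  have h3 : (3 : K) = 0 := three_eq_zero
  have e2 : (2 : K) = -1 := by linear_combination h3
  simp [wordG, mul_assoc, h3, e2, xG_zero checked_G2 (show 10 < chevG2.nroots by decide),
    xG_zero checked_G2 (show 11 < chevG2.nroots by decide)]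

omit [CharP K 3] in
theorem push_10_6 (a b : K) (z : ↥(chevG2.group K)) :
    X 10 a * (X 6 b * z) = X 6 b * (X 10 a * (X 11 (-(b * a)) * z)) := by
  rw [← mul_assoc, xG_comm checked_G2 (r := 6) (s := 10) (by decide) (by decide)
    (T := [(11, 1, 1, 1)]) (by decide +kernel) (by decide) (by decide) b a]
  simp [wordG, mul_assoc]

theorem commute_7_9 (a b : K) : Commute (X 7 a) (X 9 b) :=
  xG_commute checked_G2 (by decide) (by decide) (T := [(10, 3, 1, 1)]) (by decide +kernel) (by decide)
    (by decide) (fun c hc => by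
      rw [List.mem_singleton] at hc
      subst hc
      exact ⟨by decide, by simpa using three_eq_zero⟩) a b

omit [CharP K 3] in
theorem push_nil {r s : ℕ} (hr : r < chevG2.nroots) (hs : s < chevG2.nroots)
    (hT : cTerms G2.cert r s = []) (h1 : s ≠ r) (h2 : s ≠ ng chevG2 r) (a b : K) (z : ↥(chevG2.group K)) :
    X s b * (X r a * z) = X r a * (X s b * z) :=
  push_of_commute (commute_of_nil hr hs hT h1 h2 a b) z

/-- The group law in sorted coordinates. -/
theorem srt_mul (p q r s u v p' q' r' s' u' v' : K) :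
    srt p q r s u v * srt p' q' r' s' u' v' =
      srt (p + p') (q + q') (r + r' - p' * q) (s + s' - p' * q ^ 2 - (r - p' * q) * q')
        (u + u' + p' * q ^ 3) (v + v' - p' * u + p' ^ 2 * q ^ 3) := by
  have key : ∀ z : ↥(chevG2.group K), srt p q r s u v * (srt p' q' r' s' u' v' * z) =
      srt (p + p') (q + q') (r + r' - p' * q) (s + s' - p' * q ^ 2 - (r - p' * q) * q')
        (u + u' + p' * q ^ 3) (v + v' - p' * u + p' ^ 2 * q ^ 3) * z := by
    intro z
    simp only [srt_eq, mul_assoc]
    have c68 := fun a b z => push_nil (K := K) (r := 6) (s := 8) (by decide) (by decide) (by decide +kernel) (by decide) (by decide) a b z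
    have c69 := fun a b z => push_nil (K := K) (r := 6) (s := 9) (by decide) (by decide) (by decide +kernel) (by decide) (by decide) a b z
    have c611 := fun a b z => push_nil (K := K) (r := 6) (s := 11) (by decide) (by decide) (by decide +kernel) (by decide) (by decide) a b z
    have c710 := fun a b z => push_nil (K := K) (r := 7) (s := 10) (by decide) (by decide) (by decide +kernel) (by decide) (by decide) a b z
    have c711 := fun a b z => push_nil (K := K) (r := 7) (s := 11) (by decide) (by decide) (by decide +kernel) (by decide) (by decide) a b z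
    have c79 := fun a b z => push_of_commute (commute_7_9 (K := K) a b) z
    have c89 := fun a b z => push_of_commute (commute_8_9 (K := K) a b) z
    have c810 := fun a b z => push_of_commute (commute_tail (K := K) a b).1 z
    have c811 := fun a b z => push_of_commute (commute_tail (K := K) a b).2.1 z
    have c910 := fun a b z => push_of_commute (commute_tail (K := K) a b).2.2.1 z
    have c911 := fun a b z => push_of_commute (commute_tail (K := K) a b).2.2.2.1 z
    have c1011 := fun a b z => push_of_commute (commute_tail (K := K) a b).2.2.2.2 z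
    have m6 := push_add (K := K) (r := 6) (by decide)
    have m7 := push_add (K := K) (r := 7) (by decide)
    have m8 := push_add (K := K) (r := 8) (by decide)
    have m9 := push_add (K := K) (r := 9) (by decide)
    have m10 := push_add (K := K) (r := 10) (by decide)
    have m11 := push_add (K := K) (r := 11) (by decide)
    simp only [push_7_6, push_8_7, push_10_6, c68, c69, c611, c710, c711, c79, c89, c810, c811, c910,
      c911, c1011, m6, m7, m8, m9, m10, m11]
    congr 1
    congr 1
    congr 1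
    · congr 1; ring
    congr 1
    · congr 1; ring
    congr 1
    · congr 1; ring
    congr 1
    congr 1; ring
  simpa using key 1

theorem srt_cube (p q r s u v : K) :
    srt p q r s u v ^ 3 = srt 0 0 0 (-(p * q ^ 2)) 0 (-(p ^ 2 * q ^ 3)) := by
  rw [pow_succ, pow_two, srt_mul, srt_mul]
  have h3 : (3 : K) = 0 := three_eq_zero
  congr 1
  · linear_combination p * h3
  · linear_combination q * h3
  · linear_combination (r - p * q) * h3
  · linear_combination (s - r * q) * h3
  · linear_combination (u + 3 * p * q ^ 3) * h3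
  · linear_combination (v - p * u + 3 * p ^ 2 * q ^ 3) * h3

omit [CharP K 3] in
theorem srt_zero : srt (0 : K) 0 0 0 0 0 = 1 := by
  simp [srt_eq, xG_zero checked_G2 (show 6 < chevG2.nroots by decide),
    xG_zero checked_G2 (show 7 < chevG2.nroots by decide), xG_zero checked_G2 (show 8 < chevG2.nroots by decide),
    xG_zero checked_G2 (show 9 < chevG2.nroots by decide), xG_zero checked_G2 (show 10 < chevG2.nroots by decide),
    xG_zero checked_G2 (show 11 < chevG2.nroots by decide)]

/-- The element `reeU t u v` is killed by 3 exactly when `t = 0`. -/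
theorem reeU_cube_eq_one_iff {e : ℕ} (he0 : e ≠ 0) (t u v : K) : reeU e t u v ^ 3 = 1 ↔ t = 0 := by
  rw [reeU_eq, srt_cube, ← srt_zero]
  constructor
  · intro h
    have h9 := (srt_injective h).2.2.2.1
    simpa [he0] using h9
  · rintro rfl
    simp [he0]

theorem reeU_zero {e : ℕ} (he0 : e ≠ 0) : reeU e (0 : K) 0 0 = 1 := by
  rw [reeU_eq, ← srt_zero]
  simp [he0]

theorem reeU_eq_one_iff {e : ℕ} (he0 : e ≠ 0) (he : ∀ x : K, x ^ (3 * (e * e)) = x) (t u v : K) :
    reeU e t u v = 1 ↔ t = 0 ∧ u = 0 ∧ v = 0 := by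
  constructor
  · intro h
    rw [← reeU_zero he0] at h
    exact reeU_injective he h
  · rintro ⟨rfl, rfl, rfl⟩
    exact reeU_zero he0

end

omit [Field K] in
theorem cartan_zero : ∀ r : Fin 6, chevG2.cartan 0 (r.1 + 6) = [-3, 2, -1, 1, 3, 0].getD r.1 0 ∧
    chevG2.cartan 1 (r.1 + 6) = [2, -1, 1, 0, -1, 1].getD r.1 0 := by decide +kernel

theorem torusFun_pair (a b : Kˣ) (r : ℕ) :
    torusFun chevG2 (pair a b) r = a ^ chevG2.cartan 0 r * b ^ chevG2.cartan 1 r := by
  rw [torusFun, show chevG2.rank = 2 from rfl, Finset.prod_range_succ, Finset.prod_range_one, pair_zero,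
    pair_one]

theorem torusG_conj_X (c : ℕ → Kˣ) {r : ℕ} (hr : r < chevG2.nroots) (t : K) :
    torusG rooted_G2 c * X r t * (torusG rooted_G2 c)⁻¹ = X r ((torusFun chevG2 c r : K) * t) := by
  refine Subtype.ext ?_
  simp only [Subgroup.coe_mul, InvMemClass.coe_inv, coe_torusG, xG, dif_pos hr]
  exact checked_G2.conj_x hr t

/-- The action of a torus element on a sorted product. -/
theorem torusG_conj_srt (c : ℕ → Kˣ) (p q r s u v : K) :
    torusG rooted_G2 c * srt p q r s u v * (torusG rooted_G2 c)⁻¹ =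
      srt ((torusFun chevG2 c 6 : K) * p) ((torusFun chevG2 c 7 : K) * q) ((torusFun chevG2 c 8 : K) * r)
        ((torusFun chevG2 c 9 : K) * s) ((torusFun chevG2 c 10 : K) * u) ((torusFun chevG2 c 11 : K) * v) := by
  simp only [srt_eq, ← MulAut.conj_apply, map_mul]
  simp only [MulAut.conj_apply]
  rw [torusG_conj_X c (by decide), torusG_conj_X c (by decide), torusG_conj_X c (by decide),
    torusG_conj_X c (by decide), torusG_conj_X c (by decide), torusG_conj_X c (by decide)]

/-- The only element of a torus of odd order fixing a nontrivial `t`, `u` or `v` is trivial. -/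
theorem pow_dvd_aux {e d : ℕ} (he : 1 ≤ e) (hd : Odd d) (hde : (d : ℤ) ∣ 3 * (e : ℤ) * e - 1) :
    ((d : ℤ) ∣ -3 * (e : ℤ) + 2 → d = 1) ∧ ((d : ℤ) ∣ -(e : ℤ) + 1 → d = 1) ∧
      ((d : ℤ) ∣ (e : ℤ) → d = 1) := by
  have one : (d : ℤ) ∣ 1 → d = 1 := fun h => by exact_mod_cast Int.eq_one_of_dvd_one (Int.natCast_nonneg d) h
  refine ⟨fun h => one ?_, fun h => one ?_, fun h => one ?_⟩
  · have h1 : (d : ℤ) ∣ 2 * (e : ℤ) - 1 := by
      have := (h.mul_left (e : ℤ)).add hde
      rwa [show (e : ℤ) * (-3 * e + 2) + (3 * e * e - 1) = 2 * e - 1 by ring] at this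
    have := (h.mul_left 2).add (h1.mul_left 3)
    rwa [show (2 : ℤ) * (-3 * e + 2) + 3 * (2 * e - 1) = 1 by ring] at this
  · have h2 : (d : ℤ) ∣ 2 := by
      have := (h.mul_left (3 * (e : ℤ) + 3)).add hde
      rwa [show (3 * (e : ℤ) + 3) * (-(e : ℤ) + 1) + (3 * e * e - 1) = 2 by ring] at this
    have h2' : d ∣ 2 := by exact_mod_cast h2
    rcases (Nat.dvd_prime Nat.prime_two).1 h2' with rfl | rfl
    · exact one_dvd _
    · exact absurd hd (by decide)
  · have := (h.mul_left (3 * (e : ℤ))).sub hde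
    rwa [show (3 * (e : ℤ)) * e - (3 * e * e - 1) = 1 by ring] at this

/-- A nontrivial fixed torus element of odd order centralises no nontrivial unipotent. -/
theorem ct_centralizes [CharP K 3] {e : ℕ} (he0 : 1 ≤ e) (he : ∀ x : K, x ^ (3 * (e * e)) = x)
    {s : Kˣ} (hs : s ≠ 1) (hodd : Odd (orderOf s)) {t u v : K}
    (h : ct e s * reeU e t u v * (ct e s)⁻¹ = reeU e t u v) : t = 0 ∧ u = 0 ∧ v = 0 := by
  have hde : (orderOf s : ℤ) ∣ 3 * (e : ℤ) * e - 1 := by
    rw [orderOf_dvd_iff_zpow_eq_one, zpow_sub_one, mul_inv_eq_one,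
      show 3 * (e : ℤ) * e = ((3 * (e * e) : ℕ) : ℤ) by push_cast; ring, zpow_natCast]
    exact Units.ext (by rw [Units.val_pow_eq_pow_val, he])
  have hd1 : orderOf s ≠ 1 := fun h' => hs (orderOf_eq_one_iff.1 h')
  obtain ⟨a1, a2, a3⟩ := pow_dvd_aux he0 hodd hde
  rw [reeU_eq, ct, torusG_conj_srt] at h
  obtain ⟨h6, -, h8, h9, -, -⟩ := srt_injective h
  have key : ∀ (r : Fin 6) (x : K) (n : ℤ),
      ([-3, 2, -1, 1, 3, 0] : List ℤ).getD r.1 0 * e + ([2, -1, 1, 0, -1, 1] : List ℤ).getD r.1 0 = n →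
      (torusFun chevG2 (pair (s ^ e) s) (r.1 + 6) : K) * x = x → ((orderOf s : ℤ) ∣ n → orderOf s = 1) →
      x = 0 := by
    intro r x n hn hx himp
    by_contra hx0
    rw [mul_eq_right₀ hx0, Units.val_eq_one, torusFun_pair, (cartan_zero r).1, (cartan_zero r).2,
      ← zpow_natCast, ← zpow_mul, ← zpow_add, mul_comm, hn, ← orderOf_dvd_iff_zpow_eq_one] at hx
    exact hd1 (himp hx)
  have ht : t = 0 := key 0 t _ rfl h6 (fun h' => a1 (by simpa using h'))
  have he' : e ≠ 0 := by omega
  refine ⟨ht, ?_, ?_⟩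
  · exact eq_zero_of_pow_eq_zero (n := e) (key 2 (u ^ e) _ rfl h8 (fun h' => a2 (by simpa using h')))
  · exact eq_zero_of_pow_eq_zero (n := e) (key 3 (v ^ e) _ rfl h9 (fun h' => a3 (by simpa using h')))

/-- The fixed torus as a homomorphism into the general linear group. -/
noncomputable def ctHom (e : ℕ) : Kˣ →* GL chevG2.Idx K where
  toFun s := (ct e s : GL chevG2.Idx K)
  map_one' := by rw [ct_one]; rfl
  map_mul' s s' := by rw [ct_mul]; rfl

theorem ctHom_apply (e : ℕ) (s : Kˣ) : ctHom e s = (ct e s : GL chevG2.Idx K) := rfl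

theorem ctHom_injective (e : ℕ) : Function.Injective (ctHom (K := K) e) :=
  fun _ _ h => (pair_inj h).2

/-- `H¹` is the image of the fixed torus homomorphism. -/
theorem diagonal_inf_eq_range [Fintype K] {m : ℕ} (hK : Fintype.card K = 3 ^ (2 * m + 1)) :
    chevG2.diagonalSubgroup K ⊓ twistedG2 K (3 ^ m) = (ctHom (K := K) (3 ^ m)).range := by
  have := charP_of_card hK
  obtain ⟨σ, hσ⟩ := exists_sigma hK
  obtain ⟨k, hk⟩ := card_units_eq hK
  apply le_antisymm
  · intro g hg
    obtain ⟨s, hs⟩ := fixed_torus hσ g hg.1 (le_fixSub hσ (pow_theta hK) hg.2)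
    exact ⟨s, hs.symm⟩
  · rintro _ ⟨s, rfl⟩
    exact ⟨by rw [SetLike.mem_coe, rooted_G2.diagonalSubgroup_eq]; exact ⟨_, rfl⟩,
      ct_mem hσ (pow_theta hK) hk s⟩

/-- The elements of `U¹`. -/
theorem mem_unipotent_inf_iff [Fintype K] {m : ℕ} (hK : Fintype.card K = 3 ^ (2 * m + 1))
    (g : GL chevG2.Idx K) : g ∈ chevG2.posUnipotent K ⊓ twistedG2 K (3 ^ m) ↔
      ∃ t u v : K, g = (reeU (3 ^ m) t u v : GL chevG2.Idx K) := by
  have := charP_of_card hK
  obtain ⟨σ, hσ⟩ := exists_sigma hK
  refine ⟨fun hg => fixed_unipotent_mem hσ (pow_theta hK) hg.1 (le_fixSub hσ (pow_theta hK) hg.2), ?_⟩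
  rintro ⟨t, u, v, rfl⟩
  exact ⟨reeU_mem_pos _ t u v, reeU_mem t u v⟩

end Cfsg.Agent.Lib.Twisted.ReeG
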