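import Cfsg.Agent.Lib.BNPair.Simplicity
import Cfsg.Agent.Lib.Core.Nilpotent
import Mathlib.GroupTheory.Transfer

/-!
Transfer of a character invariant under fusion, and normal subgroups of groups with a BN-pair.
-/

set_option autoImplicit false

namespace Cfsg.Agent.Lib.Twisted

open MonoidHom in
/-- The transfer of a character invariant under fusion. -/
theorem transfer_of_fusion {G : Type*} [Group G] [Finite G] {A : Type*} [CommGroup A] {H : Subgroup G}
    (ϕ : ↥H →* A) (g : ↥H) (hfus : ∀ (x y : ↥H) (c : G), c⁻¹ * (x : G) * c = y → ϕ y = ϕ x) :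
    ϕ.transfer (g : G) = ϕ g ^ H.index := by
  classical
  have : H.FiniteIndex := inferInstance
  let := H.fintypeQuotientOfFiniteIndex
  rw [transfer_eq_prod_quotient_orbitRel_zpowers_quot, H.index_eq_sum_minimalPeriod (g : G),
    ← Finset.prod_pow_eq_pow_sum]
  refine Finset.prod_congr rfl fun q _ => ?_
  rw [← map_pow]
  exact hfus (g ^ _) _ (Quotient.out q.out) (by simp)


/-- A finite `p`-group whose abelianization is generated by one element is generated by it. -/
theorem zpowers_eq_top_of_abelianization {T : Type*} [Group T] [Finite T] {p : ℕ} [Fact p.Prime]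
    (hT : IsPGroup p T) {d : T} (hgen : Subgroup.zpowers d ⊔ commutator T = ⊤) :
    Subgroup.zpowers d = ⊤ :=
  frattini_nongenerating (top_le_iff.1 (hgen.ge.trans
    (sup_le_sup_left (Cfsg.Agent.Lib.Nilp.commutator_le_and_pow_mem_frattini hT).1 _)))

/-- A normal subgroup whose quotient is a `p`-group contains the derived subgroup, if the latter has cyclic
quotient. -/
theorem commutator_le_of_pGroup_quotient {G : Type*} [Group G] [Finite G] {p : ℕ} [Fact p.Prime] {d : G}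
    (hgen : Subgroup.zpowers d ⊔ commutator G = ⊤) (N : Subgroup G) [N.Normal] (hN : IsPGroup p (G ⧸ N)) :
    commutator G ≤ N := by
  have h1 : Subgroup.zpowers (QuotientGroup.mk' N d) ⊔ commutator (G ⧸ N) = ⊤ := by
    have h := congrArg (Subgroup.map (QuotientGroup.mk' N)) hgen
    rwa [Subgroup.map_sup, MonoidHom.map_zpowers, commutator_def, Subgroup.map_commutator,
      Subgroup.map_top_of_surjective _ (QuotientGroup.mk'_surjective N), ← commutator_def] at h
  have h2 := zpowers_eq_top_of_abelianization hN h1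
  rw [commutator_def, Subgroup.commutator_le]
  intro a _ b _
  obtain ⟨i, hi⟩ := Subgroup.mem_zpowers_iff.1 (h2 ▸ Subgroup.mem_top (QuotientGroup.mk' N a))
  obtain ⟨k, hk⟩ := Subgroup.mem_zpowers_iff.1 (h2 ▸ Subgroup.mem_top (QuotientGroup.mk' N b))
  rw [← QuotientGroup.eq_one_iff, ← QuotientGroup.mk'_apply, map_commutatorElement, ← hi, ← hk,
    commutatorElement_eq_one_iff_mul_comm]
  exact (Commute.zpow_zpow_self _ i k).eq

/-- A normal subgroup of a group with an irreducible BN-pair is in the core or supplemented by `B`. -/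
theorem normal_eq_bot_or_surjective {G : Type*} [Group G] (P : Cfsg.BNPair G) (hirr : P.Irreducible)
    (hcore : P.B.normalCore = ⊥) (H : Subgroup G) [H.Normal] :
    H = ⊥ ∨ Function.Surjective ((QuotientGroup.mk' H).comp P.B.subtype) := by
  obtain ⟨J, hJ, hHJ⟩ := BNPair.exists_eq_parabolic P (P.B ⊔ H) le_sup_left
  by_cases h1 : J.Nonempty
  · right
    by_cases hd : (P.S \ J).Nonempty
    · exfalso
      obtain ⟨s, hs, t, ht, hne⟩ := hirr J hJ h1 hd
      have hc := BNPair.commute_of_normal P H hJ hHJ (s := ⟨s, hJ hs⟩) (t := ⟨t, ht.1⟩) hs ht.2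
      refine hne ((BNPair.toW_eq_one_iff P (n := BNPair.gen P ⟨s, hJ hs⟩ * BNPair.gen P ⟨t, ht.1⟩ *
        (BNPair.gen P ⟨s, hJ hs⟩)⁻¹ * (BNPair.gen P ⟨t, ht.1⟩)⁻¹)).1 ?_)
      show BNPair.refl P ⟨s, hJ hs⟩ * BNPair.refl P ⟨t, ht.1⟩ * (BNPair.refl P ⟨s, hJ hs⟩)⁻¹ *
        (BNPair.refl P ⟨t, ht.1⟩)⁻¹ = 1
      rw [hc]; group
    have htop : P.B ⊔ H = ⊤ := by
      rw [hHJ, Set.Subset.antisymm hJ (Set.sdiff_eq_empty.1 (Set.not_nonempty_iff_eq_empty.1 hd))]
      exact BNPair.parabolic_S P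
    intro q
    obtain ⟨g, rfl⟩ := QuotientGroup.mk_surjective q
    have hg : g ∈ P.B ⊔ H := htop ▸ Subgroup.mem_top g
    rw [← SetLike.mem_coe, Subgroup.mul_normal] at hg
    obtain ⟨b, hb, h, hh, rfl⟩ := hg
    exact ⟨⟨b, hb⟩, QuotientGroup.eq.2 (by simpa using hh)⟩
  · left
    rw [Set.not_nonempty_iff_eq_empty.1 h1, Cfsg.BNPair.parabolic, Subgroup.closure_empty,
      sup_bot_eq, sup_eq_left] at hHJ
    rw [← le_bot_iff, ← hcore]
    exact Subgroup.normal_le_normalCore.2 hHJ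

/-- A normal subgroup of index two contained in every nontrivial normal subgroup is simple, if a prime
divides its order exactly once. -/
theorem isSimpleGroup_of_index_two {G : Type*} [Group G] [Finite G] {D : Subgroup G} [hDn : D.Normal]
    (hidx : D.index = 2) (hmin : ∀ H : Subgroup G, H.Normal → H = ⊥ ∨ D ≤ H) {p : ℕ} (hp : p.Prime)
    (h1 : p ∣ Nat.card ↥D) (h2 : ¬ p * p ∣ Nat.card ↥D) : IsSimpleGroup ↥D := by
  have hnt : Nontrivial ↥D := by
    rw [← Finite.one_lt_card_iff_nontrivial]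
    exact lt_of_lt_of_le hp.one_lt (Nat.le_of_dvd Nat.card_pos h1)
  refine ⟨fun M₀ hM₀ => ?_⟩
  set M := M₀.map D.subtype with hMdef
  have hMD : M ≤ D := Subgroup.map_subtype_le M₀
  have hM : ∀ d ∈ D, ∀ m ∈ M, d * m * d⁻¹ ∈ M := by
    rintro d hd _ ⟨m, hm, rfl⟩
    exact ⟨⟨d, hd⟩ * m * ⟨d, hd⟩⁻¹, hM₀.conj_mem _ hm _, rfl⟩
  by_contra hne
  simp only [not_or] at hne
  have hne1 : M ≠ ⊥ := fun h => hne.1 ((Subgroup.map_eq_bot_iff_of_injective _ D.subtype_injective).1 h)
  have hne2 : M ≠ D := fun h => hne.2 (Subgroup.map_injective D.subtype_injective (h.trans (by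
    rw [← MonoidHom.range_eq_map, Subgroup.range_subtype])))
  obtain ⟨x, hx⟩ : ∃ x, x ∉ D := by
    by_contra hall
    simp only [not_exists, not_not] at hall
    rw [(Subgroup.eq_top_iff' D).2 hall, Subgroup.index_top] at hidx
    omega
  set M' := M.map (MulAut.conj x).toMonoidHom with hM'
  have hmem' : ∀ {y}, y ∈ M' ↔ x⁻¹ * y * x ∈ M := by
    intro y
    constructor
    · rintro ⟨m, hm, rfl⟩
      simpa [mul_assoc] using hm
    · exact fun h => ⟨_, h, show x * (x⁻¹ * y * x) * x⁻¹ = y by group⟩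
  have hM'D : M' ≤ D := fun y hy => by
    have := hDn.conj_mem _ (hMD (hmem'.1 hy)) x
    rwa [show x * (x⁻¹ * y * x) * x⁻¹ = y by group] at this
  have hxx : x * x ∈ D := Subgroup.mul_self_mem_of_index_two hidx x
  have hM'n : ∀ d ∈ D, ∀ m ∈ M', d * m * d⁻¹ ∈ M' := by
    intro d hd m hm
    rw [hmem'] at hm ⊢
    have := hM _ (hDn.conj_mem _ hd x⁻¹) _ hm
    rwa [show x⁻¹ * d * x⁻¹⁻¹ * (x⁻¹ * m * x) * (x⁻¹ * d * x⁻¹⁻¹)⁻¹ = x⁻¹ * (d * m * d⁻¹) * x by group] at this
  have hswap : ∀ {y}, y ∈ M' → x * y * x⁻¹ ∈ M := fun {y} hy => by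
    have := hM _ hxx _ (hmem'.1 hy)
    rwa [show x * x * (x⁻¹ * y * x) * (x * x)⁻¹ = x * y * x⁻¹ by group] at this
  have hswap' : ∀ {y}, y ∈ M → x * y * x⁻¹ ∈ M' := fun {y} hy => ⟨y, hy, rfl⟩
  have hdecomp : ∀ g, g ∈ D ∨ x⁻¹ * g ∈ D := fun g => by
    by_cases hg : g ∈ D
    · exact Or.inl hg
    · exact Or.inr ((Subgroup.mul_mem_iff_of_index_two hidx).2 (iff_of_false (by rwa [inv_mem_iff]) hg))
  have mknormal : ∀ N : Subgroup G, (∀ d ∈ D, ∀ y ∈ N, d * y * d⁻¹ ∈ N) → (∀ y ∈ N, x * y * x⁻¹ ∈ N) →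
      N.Normal := fun N h1 h3 => ⟨fun y hy g => by
    rcases hdecomp g with hg | hg
    · exact h1 g hg y hy
    · have := h3 _ (h1 _ hg y hy)
      rwa [show x * (x⁻¹ * g * y * (x⁻¹ * g)⁻¹) * x⁻¹ = g * y * g⁻¹ by group] at this⟩
  have hinf : M ⊓ M' = ⊥ := by
    have hn := mknormal (M ⊓ M') (fun d hd y hy => ⟨hM d hd y hy.1, hM'n d hd y hy.2⟩)
      fun y hy => ⟨hswap hy.2, hswap' hy.1⟩
    exact (hmin _ hn).resolve_right fun h => hne2 (le_antisymm hMD (h.trans inf_le_left))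
  have hcomm : ∀ a ∈ M, ∀ b ∈ M', a * b = b * a := by
    intro a ha b hb
    have h1 : a * b * a⁻¹ * b⁻¹ ∈ M ⊓ M' := by
      refine ⟨?_, M'.mul_mem (hM'n a (hMD ha) b hb) (M'.inv_mem hb)⟩
      rw [show a * b * a⁻¹ * b⁻¹ = a * (b * a⁻¹ * b⁻¹) by group]
      exact M.mul_mem ha (hM b (hM'D hb) _ (M.inv_mem ha))
    rw [hinf, Subgroup.mem_bot, ← commutatorElement_def, commutatorElement_eq_one_iff_mul_comm] at h1
    exact h1
  let f : ↥M × ↥M' →* G :=
    MonoidHom.noncommCoprod M.subtype M'.subtype fun a b => hcomm a a.2 b b.2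
  have hf : Function.Injective f := by
    refine (injective_iff_map_eq_one f).2 fun q hq => ?_
    have e : (q.1 : G) * q.2 = 1 := hq
    have hm : (q.1 : G) ∈ M ⊓ M' := ⟨q.1.2, by rw [eq_inv_of_mul_eq_one_left e]; exact M'.inv_mem q.2.2⟩
    rw [hinf, Subgroup.mem_bot] at hm
    rw [hm, one_mul] at e
    exact Prod.ext (Subtype.ext hm) (Subtype.ext e)
  have hr : f.range = M ⊔ M' := by
    exact (MonoidHom.noncommCoprod_range _ _ _).trans (by rw [Subgroup.range_subtype, Subgroup.range_subtype])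
  have hcl : M ⊔ M' ≤ (M ⊔ M').comap (MulAut.conj x).toMonoidHom := sup_le
    (fun a ha => Subgroup.mem_sup_right (hswap' ha)) (fun a ha => Subgroup.mem_sup_left (hswap ha))
  have hsup : M ⊔ M' = D := by
    refine le_antisymm (sup_le hMD hM'D) ((hmin _ ?_).resolve_left
      fun h => hne1 (le_bot_iff.1 (h ▸ le_sup_left)))
    refine mknormal _ (fun d hd y hy => ?_) fun y hy => hcl hy
    have h3 : M ⊔ M' ≤ (M ⊔ M').comap (MulAut.conj d).toMonoidHom := sup_le
      (fun a ha => Subgroup.mem_sup_left (hM d hd a ha)) (fun a ha => Subgroup.mem_sup_right (hM'n d hd a ha))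
    exact h3 hy
  have hc : Nat.card ↥D = Nat.card ↥M * Nat.card ↥M := by
    rw [← hsup, ← hr, ← Nat.card_congr (MonoidHom.ofInjective hf).toEquiv, Nat.card_prod]
    exact congrArg _ (Subgroup.card_map_of_injective (MulEquiv.injective _))
  rw [hc] at h1 h2
  exact h2 ((hp.dvd_mul.1 h1).elim (fun h => mul_dvd_mul h h) fun h => mul_dvd_mul h h)

end Cfsg.Agent.Lib.Twisted
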