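import Cfsg.Agent.Lib.Twisted.Ree.F4TwoCheck
import Cfsg.Agent.Lib.Twisted.Ree.GroupTools

/-!
A homomorphism of `²F₄(2)` onto the group of order two: the transfer of an additive function on the
positive unipotent subgroup which is invariant under fusion.
-/

set_option autoImplicit false
set_option maxHeartbeats 400000
set_option maxRecDepth 4096

namespace Cfsg.Agent.Lib.Twisted.Core.OrbitSys

open Cfsg.Lie Cfsg.Agent.Lib.Chev

variable {D : ChevalleyDatum} {C : Cert} {F : Type*} [Field F] [Fintype F] {T : Twist D C F} {ι : Type}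
  (S : OrbitSys T ι)

/-- A fixed element of an inversion group splits along a descent orbit into fixed factors. -/
theorem exists_fixed_split {v : Equiv.Perm (Fin D.nroots)} (hv : T.FixW v) {j : ι}
    (hd : ∀ i ∈ S.J j, ¬ Asc v i) {g : GL D.Idx F} (hg : g ∈ Twist.uGrp D F v ⊓ T.fixedGroup) :
    ∃ a ∈ S.outGrp v j ⊓ T.fixedGroup, ∃ c ∈ Twist.uGrp D F (S.wJ j) ⊓ T.fixedGroup, g = a * c := by
  obtain ⟨⟨a, c⟩, e⟩ := (S.split_bijective hv hd).2 ⟨g, hg.1⟩
  have e1 : (a : GL D.Idx F) * c = g := congrArg Subtype.val e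
  have hc : (c : GL D.Idx F) ∈ D.group F := uGrp_le_group T.hh _ c.2
  have ha : (a : GL D.Idx F) ∈ D.group F := S.outGrp_le_group _ _ a.2
  have e2 := (S.split_bijective hv hd).1
    (a₁ := (⟨T.sig a, S.sig_outGrp hv a.2⟩, ⟨T.sig c, sig_uGrp_fix (S.wJ_fixW j) c.2⟩)) (a₂ := (a, c))
    (Subtype.ext (by
      show T.sig (a : GL D.Idx F) * T.sig c = a * c
      rw [← T.sig_mul ha hc, e1, T.sig_fixed hg.2]))
  simp only [Prod.mk.injEq, Subtype.ext_iff] at e2
  exact ⟨a, ⟨a.2, T.mem_fixedGroup.2 ⟨ha, e2.1⟩⟩, c, ⟨c.2, T.mem_fixedGroup.2 ⟨hc, e2.2⟩⟩, e1.symm⟩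

end Cfsg.Agent.Lib.Twisted.Core.OrbitSys

namespace Cfsg.Agent.Lib.Twisted.ReeF

open Cfsg.Lie Cfsg.Agent.Lib.Chev Cfsg.Agent.Lib.Twisted Cfsg.Agent.Lib.Twisted.Core

variable {K : Type*} [Field K] [Fintype K] [CharP K 2]

variable (K) in
/-- The common stabiliser of the two probes. -/
def chiSub : Subgroup (GL chevF4.Idx K) := probeA.stabSub chevF4 K ⊓ probeB.stabSub chevF4 K

/-- The sum of the values of the two probes. -/
def chi (g : GL chevF4.Idx K) : K := probeA.val chevF4 g + probeB.val chevF4 g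

omit [CharP K 2] in
theorem chi_mul {g h : GL chevF4.Idx K} (hg : g ∈ (chiSub K)) (hh : h ∈ (chiSub K)) : chi (g * h) = chi g + chi h := by
  rw [chi, chi, chi, (Probe.stab_mul (show probeA.Stab chevF4 g from hg.1) hh.1).2,
    (Probe.stab_mul (show probeB.Stab chevF4 g from hg.2) hh.2).2]
  abel

omit [CharP K 2] in
theorem chi_one : chi (1 : GL chevF4.Idx K) = 0 := by
  have := chi_mul (one_mem (chiSub K)) (one_mem (chiSub K))
  rw [mul_one] at this
  simpa using this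

theorem chi_inv {g : GL chevF4.Idx K} (hg : g ∈ (chiSub K)) : chi g⁻¹ = chi g := by
  have h := chi_mul (inv_mem hg) hg
  rw [inv_mul_cancel, chi_one] at h
  rw [← sub_eq_zero, CharTwo.sub_eq_add, ← h]

theorem okW_sound {w : List (ℕ × ℤ)} {b : ℤ} (h : okW w b = true) :
    ((wordG checked_F4 (castW K w) : ↥(chevF4.group K)) : GL chevF4.Idx K) ∈ (chiSub K) ∧
      chi (wordG checked_F4 (castW K w) : GL chevF4.Idx K) = (b : K) := by
  simp only [okW, List.any_eq_true, Bool.and_eq_true] at h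
  obtain ⟨a, -, h1, h2⟩ := h
  obtain ⟨s1, v1⟩ := Probe.stab_of_wordOK checked_F4 2 h1 (coe_wordG checked_F4 (castW K w))
  obtain ⟨s2, v2⟩ := Probe.stab_of_wordOK checked_F4 2 h2 (coe_wordG checked_F4 (castW K w))
  refine ⟨⟨s1, s2⟩, ?_⟩
  rw [chi, v1, v2]
  push_cast
  ring

theorem baseWords_lt : ∀ j, ∀ q ∈ baseWords j, ∀ x ∈ q.1, x.1 < 48 := by decide +kernel

variable (h2 : Fintype.card K = 2)
include h2

omit [CharP K 2] in
theorem eq_zero_or_one (x : K) : x = 0 ∨ x = 1 := by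
  classical
  have h : ({0, 1} : Finset K) = Finset.univ := Finset.eq_univ_of_card _ (by simp [h2])
  simpa using (h.symm ▸ Finset.mem_univ x : x ∈ ({0, 1} : Finset K))

omit [CharP K 2] in
theorem pow_theta_two (x : K) : x ^ (2 * (2 ^ 0 * 2 ^ 0)) = x := by
  rcases eq_zero_or_one h2 x with rfl | rfl <;> simp

omit [CharP K 2] in
theorem diag_two : chevF4.diagonalSubgroup K = ⊥ := by
  rw [rooted_F4.diagonalSubgroup_eq, MonoidHom.range_eq_bot_iff]
  refine MonoidHom.ext fun c => ?_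
  have : c = 1 := funext fun i => Units.ext
    ((eq_zero_or_one h2 (c i : K)).resolve_left (c i).ne_zero)
  rw [this, map_one]
  rfl

omit [CharP K 2] in
theorem borel_two : chevF4.borelSubgroup K = chevF4.posUnipotent K := by
  rw [ChevalleyDatum.borelSubgroup, diag_two h2, sup_bot_eq]

omit [CharP K 2] in
theorem cls_eq {L : List ℕ} (hL : IsWord chevF4 L) {n : GL chevF4.Idx K}
    (hn : Cls rooted_F4 (wperm checked_F4 L) n) : n = nProd checked_F4 K L := by
  have h := (Cls.of_word (hh := rooted_F4) (F := K) hL).diff hn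
  rw [diag_two h2, Subgroup.mem_bot] at h
  exact (inv_mul_eq_one.1 h).symm

variable {σ : ↥(chevF4.group K) →* ↥(chevF4.group K)} (hσ : IsReeSigma (2 ^ 0) σ)
include hσ

local notation "Sy" => orbitSys hσ (pow_theta_two h2)

local notation "Fix" => Twist.fixedGroup (twist hσ)

theorem exists_baseWord (j : Fin 2) {c : GL chevF4.Idx K}
    (hc : c ∈ Twist.uGrp chevF4 K ((orbitSys hσ (pow_theta_two h2)).wJ j) ⊓ Fix) :
    ∃ q ∈ baseWords j, c = (wordG checked_F4 (castW K q.1) : GL chevF4.Idx K) := by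
  fin_cases j
  · have h1 : c ∈ rootGen chevF4 K setP := by rw [← uGrp_P]; exact hc.1
    obtain ⟨t, e⟩ := exists_pairU hσ (g := ⟨c, fixSub_le σ hc.2⟩) h1 (mem_fixSub.1 hc.2)
    rw [show c = _ from congrArg Subtype.val e]
    rcases eq_zero_or_one h2 t with rfl | rfl
    · exact ⟨_, List.mem_cons_self, by simp [pairU, castW, f4PairWord, f4p1, f4p4]⟩
    · exact ⟨_, List.mem_cons_of_mem _ List.mem_cons_self, by simp [pairU, castW, f4PairWord, f4p1, f4p4]⟩
  · have h1 : c ∈ rootGen chevF4 K setQ := by rw [← uGrp_Q]; exact hc.1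
    obtain ⟨t, u, e⟩ := exists_classU hσ (g := ⟨c, fixSub_le σ hc.2⟩) h1 (mem_fixSub.1 hc.2)
    rw [show c = _ from congrArg Subtype.val e]
    have h11 : (1 : K) + 1 = 0 := CharTwo.add_self_eq_zero 1
    rcases eq_zero_or_one h2 t with rfl | rfl <;>
      rcases eq_zero_or_one h2 u with rfl | rfl
    · exact ⟨_, List.mem_cons_self,
        by simp [classU, castW, b2ClassWord, f4a, f4b, f4ab, f4aab]⟩
    · exact ⟨_, List.mem_cons_of_mem _ (List.mem_cons_of_mem _ List.mem_cons_self),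
        by simp [classU, castW, b2ClassWord, f4a, f4b, f4ab, f4aab]⟩
    · exact ⟨_, List.mem_cons_of_mem _ List.mem_cons_self,
        by simp [classU, castW, b2ClassWord, f4a, f4b, f4ab, f4aab]⟩
    · exact ⟨_, List.mem_cons_of_mem _ (List.mem_cons_of_mem _ (List.mem_cons_of_mem _ List.mem_cons_self)),
        by simp [classU, castW, b2ClassWord, f4a, f4b, f4ab, f4aab, h11]⟩

/-- The function on the orbit groups is unchanged by representatives keeping them positive. -/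
theorem base_conj (j : Fin 2) {c : GL chevF4.Idx K}
    (hc : c ∈ Twist.uGrp chevF4 K ((orbitSys hσ (pow_theta_two h2)).wJ j) ⊓ Fix) :
    ∃ b : K, ∀ w : Equiv.Perm (Fin chevF4.nroots), (twist hσ).FixW w →
      (∀ r ∈ invs ((orbitSys hσ (pow_theta_two h2)).wJ j), chevF4.nroots / 2 ≤ (w r).val) →
      ∀ n, Cls rooted_F4 w n → n * c * n⁻¹ ∈ (chiSub K) ∧ chi (n * c * n⁻¹) = b := by
  obtain ⟨q, hq, rfl⟩ := exists_baseWord h2 hσ j hc
  refine ⟨(q.2 : K), fun w hw hpos n hn => ?_⟩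
  obtain ⟨L, hLm, rfl⟩ := List.mem_map.1
    (List.mem_toFinset.1 (((orbitSys hσ (pow_theta_two h2)).mem_enumSet (orb := [LP, LQ]) rfl chkEnum_F4 w).2 hw))
  have eorb : (orbitSys hσ (pow_theta_two h2)).orbList = [LP, LQ] := rfl
  rw [eorb] at hw hpos hn
  have hM : IsWord chevF4 (orbWord [LP, LQ] L) := (orbitSys hσ (pow_theta_two h2)).isWord_orbWord L
  rw [cls_eq h2 hM hn, ← coe_nInts checked_F4 hM, ← Subgroup.coe_mul, ← Subgroup.coe_inv, ← Subgroup.coe_mul,
    conj_wordG checked_F4 (π := perm F4.cert (orbWord [LP, LQ] L)) (c := fun _ => 1)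
      (fun r hr t => n_conj hM r hr t) _ (fun p hp => ?_)]
  · have hk := chkBase_eq j
    simp only [chkBase, List.all_eq_true] at hk
    have hk := hk L hLm
    have hroots : ((baseRoots j).all fun r => Nat.ble 24 (perm F4.cert (orbWord [LP, LQ] L) r)) = true := by
      refine List.all_eq_true.2 fun r hr => Eq.mpr Nat.ble_eq ?_
      obtain ⟨hr48, hmem⟩ : ∃ hr48 : r < chevF4.nroots,
          (⟨r, hr48⟩ : Fin chevF4.nroots) ∈ invs ((orbitSys hσ (pow_theta_two h2)).wJ j) := by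
        fin_cases j
        · have himg := Set.ext_iff.1 (class_image checked_F4 isWord_LP (by decide) chk_classP) r
          obtain ⟨a, ha, rfl⟩ := himg.2 hr
          exact ⟨a.2, ha⟩
        · have himg := Set.ext_iff.1 (class_image checked_F4 isWord_LQ (by decide) chk_classQ) r
          obtain ⟨a, ha, rfl⟩ := himg.2 hr
          exact ⟨a.2, ha⟩
      have h1 := hpos _ hmem
      rw [show (wperm checked_F4 (orbWord [LP, LQ] L) ⟨r, hr48⟩).val = _ from checked_F4.wperm_val hM _] at h1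
      exact h1
    simp only [hroots, Bool.not_true, Bool.false_or, List.all_eq_true] at hk
    have := okW_sound (K := K) (hk q hq)
    simpa [castW, List.map_map, Function.comp_def] using this
  · obtain ⟨x, hx, rfl⟩ := List.mem_map.1 hp
    exact baseWords_lt j q hq x hx

/-- The function is unchanged by representatives keeping an inversion group positive. -/
theorem chi_conj {v : Equiv.Perm (Fin chevF4.nroots)} (hv : (twist hσ).FixW v) :
    ∀ x ∈ Twist.uGrp chevF4 K v ⊓ Fix, ∃ b : K, ∀ w : Equiv.Perm (Fin chevF4.nroots), (twist hσ).FixW w →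
      (∀ r ∈ invs v, chevF4.nroots / 2 ≤ (w r).val) →
      ∀ n, Cls rooted_F4 w n → n * x * n⁻¹ ∈ (chiSub K) ∧ chi (n * x * n⁻¹) = b := by
  set S := orbitSys hσ (pow_theta_two h2)
  refine S.fixW_induction (P := fun v => ∀ x ∈ Twist.uGrp chevF4 K v ⊓ Fix, ∃ b : K,
    ∀ w : Equiv.Perm (Fin chevF4.nroots), (twist hσ).FixW w →
      (∀ r ∈ invs v, chevF4.nroots / 2 ≤ (w r).val) →
      ∀ n, Cls rooted_F4 w n → n * x * n⁻¹ ∈ (chiSub K) ∧ chi (n * x * n⁻¹) = b) ?_ ?_ hv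
  · intro x hx
    obtain rfl : x = 1 := by
      have : x ∈ Twist.uGrp chevF4 K 1 := hx.1
      rwa [uGrp_one, Subgroup.mem_bot] at this
    exact ⟨0, fun w _ _ n _ => by rw [mul_one, mul_inv_cancel]; exact ⟨one_mem _, chi_one⟩⟩
  intro v j hv hd ih x hx
  obtain ⟨a, ha, c, hc, rfl⟩ := OrbitSys.exists_fixed_split (orbitSys hσ (pow_theta_two h2)) hv hd hx
  obtain ⟨bc, hbc⟩ := base_conj h2 hσ j hc
  obtain ⟨m, hmG, hm⟩ := S.exists_rep j
  have hmf : m ∈ Fix := S.G_le hmG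
  obtain ⟨ba, hba⟩ := ih (m * a * m⁻¹) ⟨S.conj_outGrp hm hv hd ha.1,
    Subgroup.mul_mem _ (Subgroup.mul_mem _ hmf ha.2) (Subgroup.inv_mem _ hmf)⟩
  refine ⟨ba + bc, fun w hw hpos n hn => ?_⟩
  obtain ⟨c1, c2⟩ := hbc w hw (fun r hr => hpos r (S.invs_wJ_subset hv hd hr)) n hn
  have hcl : Cls rooted_F4 (w * S.wJ j) (n * m⁻¹) := hn.mul (S.cls_inv hm)
  obtain ⟨a1, a2⟩ := hba (w * S.wJ j) (hw.mul (S.wJ_fixW j)) (fun r hr => by
    rw [S.invs_mul_wJ hv hd, Finset.mem_map] at hr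
    obtain ⟨r', hr', rfl⟩ := hr
    rw [Equiv.Perm.mul_apply, Equiv.coe_toEmbedding, S.wJ_wJ]
    exact hpos r' (Finset.mem_sdiff.1 hr').1) _ hcl
  have e : n * m⁻¹ * (m * a * m⁻¹) * (n * m⁻¹)⁻¹ = n * a * n⁻¹ := by group
  rw [e] at a1 a2
  rw [show n * (a * c) * n⁻¹ = n * a * n⁻¹ * (n * c * n⁻¹) by group, chi_mul a1 c1, a2, c2]
  exact ⟨mul_mem a1 c1, rfl⟩

/-- The positive unipotent fixed elements. -/
theorem pos_le_chiSub : chevF4.posUnipotent K ⊓ Fix ≤ (chiSub K) := by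
  intro x hx
  obtain ⟨w0, hw0, eU, -, -⟩ := exists_top_fixW (twist hσ)
  obtain ⟨b, hb⟩ := chi_conj h2 hσ hw0 x ⟨by rw [eU]; exact hx.1, hx.2⟩
  have := (hb 1 (Twist.FixW.one _) (fun r hr => by
    simpa using (checked_F4.mem_invs.1 hr).1) 1 Cls.one).1
  simpa using this

/-- An element kept positive by a representative keeps its value. -/
theorem chi_conj_pos {w : Equiv.Perm (Fin chevF4.nroots)} (hw : (twist hσ).FixW w) {n : GL chevF4.Idx K}
    (hn : Cls rooted_F4 w n) {u : GL chevF4.Idx K} (hu : u ∈ chevF4.posUnipotent K ⊓ Fix)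
    (hnu : n * u * n⁻¹ ∈ chevF4.posUnipotent K) : chi (n * u * n⁻¹) = chi u := by
  have h := checked_F4
  obtain ⟨L, hL, rfl⟩ := h.exists_word_of_weyl hw.1
  obtain rfl := cls_eq h2 hL hn
  obtain ⟨a, ha, a', ha', eu⟩ := h.exists_split (invSet chevF4 F4.cert L) hu.1
  have ha1 : a' = 1 := by
    have h1 : nProd checked_F4 K L * a' * (nProd checked_F4 K L)⁻¹ ∈ chevF4.borelSubgroup K := by
      rw [borel_two h2]
      have : nProd checked_F4 K L * a' * (nProd checked_F4 K L)⁻¹ =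
          (nProd checked_F4 K L * a * (nProd checked_F4 K L)⁻¹)⁻¹ *
            (nProd checked_F4 K L * u * (nProd checked_F4 K L)⁻¹) := by rw [eu]; group
      rw [this]
      exact mul_mem (inv_mem (h.conj_posSet_sdiff_le hL ha)) hnu
    exact conj_eq_one_iff.1 (Subgroup.mem_bot.1 (rooted_F4.borel_inf_negUnipotent.le
      ⟨h1, h.conj_invSet_le hL (rootGen_mono Set.inter_subset_right ha')⟩))
  rw [ha1, mul_one] at eu
  obtain ⟨w0, hw0, -, -, hneg⟩ := exists_top_fixW (twist hσ)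
  have hv : (twist hσ).FixW (w0 * wperm checked_F4 L) := hw0.mul hw
  have huv : u ∈ Twist.uGrp chevF4 K (w0 * wperm checked_F4 L) := by
    rw [eu]
    refine rootGen_mono ?_ ha
    intro r hr
    refine ⟨⟨r, hr.1.2⟩, h.mem_invs.2 ⟨hr.1.1, ?_⟩, rfl⟩
    rw [Equiv.Perm.mul_apply, hneg, not_not, h.wperm_val hL]
    exact not_lt.1 fun hlt => hr.2 ⟨hr.1, hlt⟩
  obtain ⟨b, hb⟩ := chi_conj h2 hσ hv u ⟨huv, hu.2⟩
  have hpos : ∀ r ∈ invs (w0 * wperm checked_F4 L), chevF4.nroots / 2 ≤ (wperm checked_F4 L r).val := by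
    intro r hr
    have := (h.mem_invs.1 hr).2
    rwa [Equiv.Perm.mul_apply, hneg, not_not] at this
  have h1 := (hb _ hw hpos _ hn).2
  have h2 := (hb 1 (Twist.FixW.one _) (fun r hr => by simpa using (h.mem_invs.1 hr).1) 1 Cls.one).2
  rw [one_mul, inv_one, mul_one] at h2
  rw [h1, h2]

/-- The function is invariant under fusion in the group. -/
theorem chi_fusion {x y c : GL chevF4.Idx K} (hx : x ∈ chevF4.posUnipotent K ⊓ Fix)
    (hy : y ∈ chevF4.posUnipotent K ⊓ Fix) (hc : c ∈ Fix) (e : c⁻¹ * x * c = y) : chi y = chi x := by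
  obtain ⟨w, hw, hcan⟩ := OrbitSys.fixed_canonical hc
  obtain ⟨n, hnG, hn⟩ := ((orbitSys hσ (pow_theta_two h2)).fix_data hw).1
  obtain ⟨b, hb, u, hu, rfl⟩ := hcan n hn ((orbitSys hσ (pow_theta_two h2)).G_le hnG)
  have hbU : b ∈ chevF4.posUnipotent K ⊓ Fix := ⟨borel_two h2 ▸ hb.1, hb.2⟩
  have huU : u ∈ chevF4.posUnipotent K ⊓ Fix := ⟨uGrp_le_pos checked_F4 _ hu.1, hu.2⟩
  have hy' : u * y * u⁻¹ ∈ chevF4.posUnipotent K ⊓ Fix := mul_mem (mul_mem huU hy) (inv_mem huU)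
  have hx' : b⁻¹ * x * b ∈ chevF4.posUnipotent K ⊓ Fix := mul_mem (mul_mem (inv_mem hbU) hx) hbU
  have e1 : n * (u * y * u⁻¹) * n⁻¹ = b⁻¹ * x * b := by rw [← e]; group
  have h1 := chi_conj_pos h2 hσ hw hn hy' (e1 ▸ hx'.1)
  have hM : ∀ {g}, g ∈ chevF4.posUnipotent K ⊓ Fix → g ∈ (chiSub K) := fun hg => pos_le_chiSub h2 hσ hg
  have hu' := hM huU
  have hb' := hM hbU
  have hyM := hM hy
  have hxM := hM hx
  rw [e1, chi_mul (mul_mem (inv_mem hb') hxM) hb', chi_mul (inv_mem hb') hxM, chi_inv hb',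
    chi_mul (mul_mem hu' hyM) (inv_mem hu'), chi_mul hu' hyM, chi_inv hu'] at h1
  rwa [add_right_comm, CharTwo.add_self_eq_zero, zero_add, add_right_comm, CharTwo.add_self_eq_zero, zero_add,
    eq_comm] at h1

variable (K) in
/-- The positive unipotent subgroup of the group. -/
noncomputable def posG : Subgroup ↥(twistedF4 K (2 ^ 0)) :=
  (chevF4.posUnipotent K).subgroupOf (twistedF4 K (2 ^ 0))

theorem posG_mem {g : ↥(twistedF4 K (2 ^ 0))} (hg : g ∈ (posG K)) :
    (g : GL chevF4.Idx K) ∈ chevF4.posUnipotent K ⊓ Fix :=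
  ⟨hg, (orbitSys hσ (pow_theta_two h2)).G_le g.2⟩

/-- The character of the positive unipotent subgroup. -/
noncomputable def chiHom : ↥((posG K)) →* Multiplicative K where
  toFun g := Multiplicative.ofAdd (chi (g : GL chevF4.Idx K))
  map_one' := by simp [chi_one]
  map_mul' a b := by
    rw [← ofAdd_add, ← chi_mul (pos_le_chiSub h2 hσ (posG_mem h2 hσ a.2)) (pos_le_chiSub h2 hσ (posG_mem h2 hσ b.2))]
    rfl

theorem card_two : Nat.card ↥(twistedF4 K (2 ^ 0)) = 2 ^ 12 * 3 ^ 3 * 5 ^ 2 * 13 := by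
  rw [card_eq hσ (pow_theta_two h2), Nat.card_units, Nat.card_eq_fintype_card, h2]
  decide

theorem card_posG : Nat.card ↥((posG K)) = 2 ^ 12 := by
  rw [posG, ← Subgroup.inf_subgroupOf_right,
    Nat.card_congr (Subgroup.subgroupOfEquivOfLe (inf_le_right : chevF4.posUnipotent K ⊓
      twistedF4 K (2 ^ 0) ≤ _)).toEquiv, card_pos hσ (pow_theta_two h2), Nat.card_eq_fintype_card, h2]

theorem transfer_chi (g : ↥((posG K))) :
    (chiHom h2 hσ).transfer (g : ↥(twistedF4 K (2 ^ 0))) = chiHom h2 hσ g ^ ((posG K)).index := by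
  refine transfer_of_fusion (chiHom h2 hσ) g fun x y c e => ?_
  refine congrArg Multiplicative.ofAdd (chi_fusion h2 hσ (posG_mem h2 hσ x.2) (posG_mem h2 hσ y.2)
    ((orbitSys hσ (pow_theta_two h2)).G_le c.2) ?_)
  simpa using congrArg Subtype.val e

end Cfsg.Agent.Lib.Twisted.ReeF
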