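import Cfsg.Agent.Lib.Chev.Matrices

/-!
A functional on an invariant coordinate subspace gives an additive function on a group of matrices:
`g ↦ φ(g e_c - e_c)`.
-/

set_option autoImplicit false

namespace Cfsg.Agent.Lib.Twisted

open Cfsg.Lie Cfsg.Agent.Lib.Chev
open scoped Matrix

/-- A column, a set of coordinates, and the coordinates summed by the functional. -/
structure Probe where
  col : ℕ
  supp : List ℕ
  fn : List ℕ

namespace Probe

variable (D : ChevalleyDatum) {F : Type*} [Field F] (P : Probe)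

/-- Vectors supported on the coordinates of the probe. -/
def W (v : D.Idx → F) : Prop := ∀ i, idxCode D i ∉ P.supp → v i = 0

/-- The functional. -/
def phi (v : D.Idx → F) : F := ∑ i, if idxCode D i ∈ P.fn then v i else 0

/-- The value of an element. -/
def val (g : GL D.Idx F) : F :=
  P.phi D ((g : Matrix D.Idx D.Idx F) *ᵥ bv D F P.col - bv D F P.col)

/-- The stabiliser of the probe. -/
def Stab (g : GL D.Idx F) : Prop :=
  P.W D ((g : Matrix D.Idx D.Idx F) *ᵥ bv D F P.col - bv D F P.col) ∧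
    ∀ v : D.Idx → F, P.W D v → P.W D ((g : Matrix D.Idx D.Idx F) *ᵥ v) ∧
      P.phi D ((g : Matrix D.Idx D.Idx F) *ᵥ v) = P.phi D v

theorem phi_add (v w : D.Idx → F) : P.phi D (v + w) = P.phi D v + P.phi D w := by
  simp only [phi, Pi.add_apply, ← Finset.sum_add_distrib]
  exact Finset.sum_congr rfl fun i _ => by split_ifs <;> simp

theorem phi_smul (a : F) (v : D.Idx → F) : P.phi D (a • v) = a * P.phi D v := by
  simp only [phi, Pi.smul_apply, smul_eq_mul, Finset.mul_sum]
  exact Finset.sum_congr rfl fun i _ => by split_ifs <;> simp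

theorem W_add {v w : D.Idx → F} (hv : P.W D v) (hw : P.W D w) : P.W D (v + w) := fun i hi => by
  rw [Pi.add_apply, hv i hi, hw i hi, add_zero]

theorem stab_one : P.Stab D (1 : GL D.Idx F) := by
  refine ⟨fun i _ => by simp, fun v hv => ?_⟩
  rw [Units.val_one, Matrix.one_mulVec]
  exact ⟨hv, rfl⟩

variable {D P} in
theorem stab_mul {g h : GL D.Idx F} (hg : P.Stab D g) (hh : P.Stab D h) :
    P.Stab D (g * h) ∧ P.val D (g * h) = P.val D g + P.val D h := by
  have e : ((g * h : GL D.Idx F) : Matrix D.Idx D.Idx F) *ᵥ bv D F P.col - bv D F P.col =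
      ((g : Matrix D.Idx D.Idx F) *ᵥ bv D F P.col - bv D F P.col) +
        (g : Matrix D.Idx D.Idx F) *ᵥ ((h : Matrix D.Idx D.Idx F) *ᵥ bv D F P.col - bv D F P.col) := by
    rw [Units.val_mul, ← Matrix.mulVec_mulVec, Matrix.mulVec_sub]
    abel
  obtain ⟨h1, h2⟩ := hg.2 _ hh.1
  refine ⟨⟨e ▸ P.W_add D hg.1 h1, fun v hv => ?_⟩, ?_⟩
  · rw [Units.val_mul, ← Matrix.mulVec_mulVec]
    obtain ⟨a, b⟩ := hh.2 v hv
    exact ⟨(hg.2 _ a).1, (hg.2 _ a).2.trans b⟩
  · rw [val, val, val, e, phi_add, h2]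

variable (F) [Finite F]

/-- The stabiliser as a subgroup. -/
def stabSub : Subgroup (GL D.Idx F) where
  carrier := {g | P.Stab D g}
  one_mem' := P.stab_one D
  mul_mem' := fun hg hh => (stab_mul hg hh).1
  inv_mem' := by
    intro g hg
    have : Finite (GL D.Idx F) := inferInstance
    have hpow : ∀ n : ℕ, P.Stab D (g ^ n) := fun n => by
      induction n with
      | zero => rw [pow_zero]; exact P.stab_one D
      | succ n ih => rw [pow_succ]; exact (stab_mul ih hg).1
    show P.Stab D g⁻¹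
    rw [show g⁻¹ = g ^ (orderOf g - 1) from inv_eq_of_mul_eq_one_right (by
      rw [← pow_succ', Nat.sub_add_cancel (orderOf_pos g), pow_orderOf_eq_one])]
    exact hpow _

/-- The sum of the coefficients at the coordinates of the functional. -/
def fnSum (v : List Cfsg.Agent.Lib.Chev.Term) : ℤ :=
  ((v.filter fun e => decide (e.1 ∈ P.fn)).map fun e => e.2.2.2).sum

/-- The kernel test that a word with integer parameters lies in the stabiliser with the value `b`. -/
def wordOK (C : Cert) (p : ℕ) (w : List (ℕ × ℤ)) (b : ℤ) : Bool :=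
  let app := fun c : ℕ => appWord D C (w.map fun q => (q.1, 0, 0, q.2)) [(c, 0, 0, 1)]
  let supported := fun v : List Cfsg.Agent.Lib.Chev.Term =>
    v.all fun e => decide (e.1 ∈ P.supp) || e.2.2.2 % (p : ℤ) == 0
  let col := collect (app P.col ++ [(P.col, 0, 0, -1)])
  (w.all fun q => decide (q.1 < D.nroots)) && decide (P.col < D.nroots + D.rank) &&
    supported col && (P.fnSum col - b) % (p : ℤ) == 0 &&
    P.supp.all fun j => decide (j < D.nroots + D.rank) && supported (collect (app j)) &&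
      (P.fnSum (collect (app j)) - if j ∈ P.fn then 1 else 0) % (p : ℤ) == 0

variable {F D P}

omit [Finite F] in
theorem W_evalV (p : ℕ) [CharP F p] {v : List Cfsg.Agent.Lib.Chev.Term}
    (h : ∀ e ∈ v, e.1 ∈ P.supp ∨ e.2.2.2 % (p : ℤ) = 0) : P.W D (evalV D F 0 0 v) := by
  induction v with
  | nil => intro i _; simp [evalV]
  | cons e v ih =>
    rw [evalV_cons]
    refine P.W_add D (fun i hi => ?_) (ih fun x hx => h x (List.mem_cons_of_mem _ hx))
    rcases h e List.mem_cons_self with he | he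
    · have : idxCode D i ≠ e.1 := fun x => hi (x ▸ he)
      simp [evalT, bv, this]
    · have : (e.2.2.2 : F) = 0 := (CharP.intCast_eq_zero_iff F p _).2 (Int.dvd_of_emod_eq_zero he)
      simp [evalT, this]

omit [Finite F] in
theorem phi_bv {c : ℕ} (hc : c < D.nroots + D.rank) :
    P.phi D (bv D F c) = if c ∈ P.fn then 1 else 0 := by
  obtain ⟨x, rfl⟩ := exists_idxCode hc
  rw [phi, Finset.sum_eq_single x]
  · simp [bv]
  · intro i _ hi
    have : idxCode D i ≠ idxCode D x := fun e => hi (idxCode_inj e)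
    simp [bv, this]
  · simp

omit [Finite F] in
theorem phi_evalV (v : List Cfsg.Agent.Lib.Chev.Term)
    (hv : ∀ e ∈ v, e.1 < D.nroots + D.rank ∧ e.2.1 = 0 ∧ e.2.2.1 = 0) :
    P.phi D (evalV D F 0 0 v) = (P.fnSum v : F) := by
  induction v with
  | nil => simp [evalV, phi, fnSum]
  | cons e v ih =>
    obtain ⟨h1, h2, h3⟩ := hv e List.mem_cons_self
    rw [evalV_cons, phi_add, ih fun x hx => hv x (List.mem_cons_of_mem _ hx), evalT, h2, h3, pow_zero, mul_one,
      mul_one, phi_smul, phi_bv h1]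
    by_cases he : e.1 ∈ P.fn
    · simp [fnSum, he]
    · simp [fnSum, he]

omit [Finite F] in
theorem expo_collect : ∀ v : List Cfsg.Agent.Lib.Chev.Term, (∀ x ∈ v, x.2.1 = 0 ∧ x.2.2.1 = 0) →
    ∀ x ∈ collect v, x.2.1 = 0 ∧ x.2.2.1 = 0 := by
  have hins : ∀ (a : Cfsg.Agent.Lib.Chev.Term), a.2.1 = 0 ∧ a.2.2.1 = 0 →
      ∀ l : List Cfsg.Agent.Lib.Chev.Term, (∀ x ∈ l, x.2.1 = 0 ∧ x.2.2.1 = 0) →
      ∀ x ∈ insTerm a l, x.2.1 = 0 ∧ x.2.2.1 = 0 := by
    intro a ha l
    induction l with
    | nil => intro _ x hx; simp [insTerm] at hx; simp [hx, ha]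
    | cons b l ihb =>
      intro hl x hx
      have hb := hl b List.mem_cons_self
      have hl' := fun z hz => hl z (List.mem_cons_of_mem _ hz)
      unfold insTerm at hx
      cases hk : (Nat.beq a.1 b.1 && Nat.beq a.2.1 b.2.1 && Nat.beq a.2.2.1 b.2.2.1) <;>
        simp only [hk, cond_true, cond_false, List.mem_cons] at hx
      · rcases hx with rfl | hx
        · exact hb
        · exact ihb hl' x hx
      · rcases hx with rfl | hx
        · exact hb
        · exact hl' x hx
  intro v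
  induction v with
  | nil => simp [collect]
  | cons a v ih =>
    exact fun hv x hx => hins a (hv a List.mem_cons_self) _ (ih fun z hz => hv z (List.mem_cons_of_mem _ hz)) x hx

omit [Finite F] in
theorem expo_appWord (C : Cert) (w : List (ℕ × ℤ)) {c : ℕ} :
    ∀ e ∈ appWord D C (w.map fun q => (q.1, 0, 0, q.2)) [(c, 0, 0, 1)], e.2.1 = 0 ∧ e.2.2.1 = 0 := by
  induction w with
  | nil => simp [appWord]
  | cons q w ih =>
    intro e he
    simp only [List.map_cons, appWord, List.foldr_cons] at he ih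
    rw [appLetter, List.mem_filter] at he
    refine expo_collect _ (fun x hx => ?_) e he.1
    obtain ⟨y, hy, hx'⟩ := List.mem_flatMap.1 hx
    simp only [appTerm, List.mem_flatMap, List.mem_map] at hx'
    obtain ⟨k, -, z, -, rfl⟩ := hx'
    obtain ⟨a, b⟩ := ih y hy
    simp [a, b]

omit [Finite F] in
theorem stab_of_wordOK {C : Cert} (h : Checked D C) (p : ℕ) [CharP F p] {w : List (ℕ × ℤ)} {b : ℤ}
    (hok : P.wordOK D C p w b = true) {g : GL D.Idx F}
    (hg : (g : Matrix D.Idx D.Idx F) = D.wordMat F (w.map fun q => (q.1, (q.2 : F)))) :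
    P.Stab D g ∧ P.val D g = (b : F) := by
  simp only [wordOK, Bool.and_eq_true, List.all_eq_true, Bool.or_eq_true, decide_eq_true_eq, beq_iff_eq] at hok
  obtain ⟨⟨⟨⟨hw, hc⟩, hcol⟩, hval⟩, hsupp⟩ := hok
  set L : List Letter := w.map fun q => (q.1, 0, 0, q.2) with hLdef
  have hL : ∀ x ∈ L, x.1 < D.nroots := by
    intro x hx
    obtain ⟨q, hq, rfl⟩ := List.mem_map.1 hx
    exact hw q hq
  have hgc : ∀ c < D.nroots + D.rank, (g : Matrix D.Idx D.Idx F) *ᵥ bv D F c =
      evalV D F 0 0 (appWord D C L [(c, 0, 0, 1)]) := by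
    intro c hc
    rw [← h.wordMat_mulVec_bv hL hc, hg, hLdef]
    simp [List.map_map, Function.comp_def, letterVal]
  have hval' : ∀ c < D.nroots + D.rank, ∀ e ∈ appWord D C L [(c, 0, 0, 1)],
      e.1 < D.nroots + D.rank ∧ e.2.1 = 0 ∧ e.2.2.1 = 0 := fun c hc e he =>
    ⟨h.validV_appWord hL (by simpa [ValidV] using hc) e he, expo_appWord C w e he⟩
  have hcast : ∀ {z : ℤ}, z % (p : ℤ) = 0 → (z : F) = 0 := fun hz =>
    (CharP.intCast_eq_zero_iff F p _).2 (Int.dvd_of_emod_eq_zero hz)
  have hcollect : ∀ v : List Cfsg.Agent.Lib.Chev.Term, (∀ e ∈ v, e.1 < D.nroots + D.rank ∧ e.2.1 = 0 ∧ e.2.2.1 = 0) →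
      P.phi D (evalV D F 0 0 v) = (P.fnSum (collect v) : F) := by
    intro v hv
    rw [← evalV_collect, phi_evalV]
    intro e he
    have h1 : ValidV D (collect v) := validV_collect fun x hx => (hv x hx).1
    exact ⟨h1 e he, expo_collect v (fun x hx => (hv x hx).2) e he⟩
  have hsub : (g : Matrix D.Idx D.Idx F) *ᵥ bv D F P.col - bv D F P.col =
      evalV D F 0 0 (appWord D C L [(P.col, 0, 0, 1)] ++ [(P.col, 0, 0, -1)]) := by
    rw [evalV_append, hgc _ hc, sub_eq_add_neg]
    simp [evalV, evalT]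
  have hcolv : ∀ e ∈ appWord D C L [(P.col, 0, 0, 1)] ++ [(P.col, 0, 0, -1)],
      e.1 < D.nroots + D.rank ∧ e.2.1 = 0 ∧ e.2.2.1 = 0 := by
    intro e he
    rcases List.mem_append.1 he with he | he
    · exact hval' _ hc e he
    · rw [List.mem_singleton] at he
      subst he
      exact ⟨hc, rfl, rfl⟩
  refine ⟨⟨?_, fun v hv => ?_⟩, ?_⟩
  · rw [hsub, ← evalV_collect]
    exact W_evalV p hcol
  · have hexp : (g : Matrix D.Idx D.Idx F) *ᵥ v = ∑ i, v i • ((g : Matrix D.Idx D.Idx F) *ᵥ bv D F (idxCode D i)) := by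
      funext x
      simp only [Finset.sum_apply, Pi.smul_apply, smul_eq_mul, mulVec_bv, Matrix.mulVec, dotProduct]
      exact Finset.sum_congr rfl fun i _ => mul_comm _ _
    have hcols : ∀ i, v i ≠ 0 → P.W D ((g : Matrix D.Idx D.Idx F) *ᵥ bv D F (idxCode D i)) ∧
        P.phi D ((g : Matrix D.Idx D.Idx F) *ᵥ bv D F (idxCode D i)) = if idxCode D i ∈ P.fn then 1 else 0 := by
      intro i hi
      have hs : idxCode D i ∈ P.supp := by_contra fun hn => hi (hv i hn)
      obtain ⟨⟨hlt, hj⟩, hj'⟩ := hsupp _ hs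
      rw [hgc _ hlt]
      refine ⟨by rw [← evalV_collect]; exact W_evalV p hj, ?_⟩
      rw [hcollect _ (hval' _ hlt)]
      have h1 := hcast hj'
      push_cast at h1
      rw [sub_eq_zero] at h1
      exact h1
    rw [hexp]
    refine ⟨fun x hx => ?_, ?_⟩
    · rw [Finset.sum_apply]
      refine Finset.sum_eq_zero fun i _ => ?_
      by_cases hi : v i = 0
      · simp [hi]
      · simp [(hcols i hi).1 x hx]
    · have hlin : P.phi D (∑ i, v i • ((g : Matrix D.Idx D.Idx F) *ᵥ bv D F (idxCode D i))) =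
          ∑ i, v i * P.phi D ((g : Matrix D.Idx D.Idx F) *ᵥ bv D F (idxCode D i)) := by
        let φ : (D.Idx → F) →ₗ[F] F :=
          { toFun := P.phi D, map_add' := P.phi_add D, map_smul' := fun a u => P.phi_smul D a u }
        show φ _ = _
        rw [map_sum]
        exact Finset.sum_congr rfl fun i _ => P.phi_smul D _ _
      rw [hlin, phi]
      refine Finset.sum_congr rfl fun i _ => ?_
      by_cases hi : v i = 0
      · simp [hi]
      · rw [(hcols i hi).2]; split_ifs <;> simp
  · rw [val, hsub, hcollect _ hcolv]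
    have h1 := hcast hval
    push_cast at h1
    exact sub_eq_zero.1 h1

end Probe

end Cfsg.Agent.Lib.Twisted
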