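import Cfsg.Agent.Lib.Twisted.Ree.F4Sys
import Cfsg.Agent.Lib.Twisted.Ree.Probe

/-!
Kernel check: the sum of two probes is unchanged when the twisted root elements of `²F₄(2)` are moved to
positive roots by representatives of the fixed Weyl elements.
-/

set_option autoImplicit false

namespace Cfsg.Agent.Lib.Twisted.ReeF

open Cfsg.Lie Cfsg.Agent.Lib.Chev Cfsg.Agent.Lib.Twisted

/-- The probe on the column of the first coordinate of the torus. -/
def probeA : Probe := ⟨48, [27, 28, 29, 34, 35, 36, 37, 38, 39, 40, 44], [27]⟩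

/-- The probe on the column of the lowest root. -/
def probeB : Probe := ⟨0, List.range' 1 51, [2, 3, 4]⟩

/-- A word lies in both stabilisers and the values add up to `b`. -/
def okW (w : List (ℕ × ℤ)) (b : ℤ) : Bool :=
  [(0 : ℤ), 1].any fun a =>
    probeA.wordOK chevF4 F4.cert 2 w a && probeB.wordOK chevF4 F4.cert 2 w (b - a)

/-- The fixed elements of the orbit group `j`, as words with their values. -/
def baseWords : Fin 2 → List (List (ℕ × ℤ) × ℤ) :=
  ![[([(33, 0), (24, 0)], 0), ([(33, 1), (24, 1)], 0)],
    [([(27, 0), (25, 0), (28, 0), (30, 0)], 0), ([(27, 1), (25, 1), (28, 1), (30, 0)], 1),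
      ([(27, 0), (25, 0), (28, 1), (30, 1)], 0), ([(27, 1), (25, 1), (28, 0), (30, 1)], 1)]]

/-- The roots of the orbit group `j`. -/
def baseRoots : Fin 2 → List ℕ := ![[24, 33], [25, 27, 28, 30]]

/-- The check for the orbit group `j`. -/
def chkBase (j : Fin 2) : Bool :=
  els.all fun L =>
    let M := Core.orbWord [LP, LQ] L
    !((baseRoots j).all fun r => Nat.ble 24 (perm F4.cert M r)) ||
      (baseWords j).all fun q => okW (q.1.map fun x => (perm F4.cert M x.1, x.2)) q.2

theorem chkBase_P : chkBase 0 = true := by decide +kernel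

theorem chkBase_Q : chkBase 1 = true := by decide +kernel

theorem chkBase_eq (j : Fin 2) : chkBase j = true := by
  fin_cases j
  exacts [chkBase_P, chkBase_Q]

end Cfsg.Agent.Lib.Twisted.ReeF
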