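import Mathlib.GroupTheory.Sylow
import Mathlib.GroupTheory.Abelianization.Defs

/-!
A minimal normal subgroup whose order has a prime divisor of multiplicity one is simple.
-/

set_option autoImplicit false
set_option linter.style.haveILetI false

namespace Cfsg.Agent.Lib.Twisted

/-- The prime-to-`p` normal subgroups have a largest member, which is characteristic. -/
theorem exists_characteristic_coprime (G : Type*) [Group G] [Finite G] {p : ℕ} (hp : p.Prime) :
    ∃ K : Subgroup G, K.Characteristic ∧ ¬ p ∣ Nat.card ↥K ∧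
      ∀ M : Subgroup G, M.Normal → ¬ p ∣ Nat.card ↥M → M ≤ K := by
  classical
  have : Finite (Subgroup G) := inferInstance
  obtain ⟨K, hK⟩ := (Set.toFinite {M : Subgroup G | M.Normal ∧ ¬ p ∣ Nat.card ↥M}).exists_maximal
    ⟨⊥, inferInstance, by rw [Subgroup.card_bot, Nat.dvd_one]; exact hp.ne_one⟩
  obtain ⟨⟨hKn, hKp⟩, hmax⟩ := hK
  have hle : ∀ M : Subgroup G, M.Normal → ¬ p ∣ Nat.card ↥M → M ≤ K := by
    intro M hM hMp
    have := hKn
    have := hM
    refine le_trans le_sup_right (hmax (⟨inferInstance, fun h => ?_⟩ : (K ⊔ M).Normal ∧ _) le_sup_left)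
    have h1 : Nat.card ↥K * K.relIndex (K ⊔ M) = Nat.card ↥(K ⊔ M) := by
      rw [← Subgroup.relIndex_bot_left, ← Subgroup.relIndex_bot_left]
      exact Subgroup.relIndex_mul_relIndex _ _ _ bot_le le_sup_left
    rw [sup_comm] at h1
    rw [Subgroup.relIndex_sup_right] at h1
    rw [sup_comm, ← h1] at h
    rcases hp.dvd_mul.1 h with h | h
    · exact hKp h
    · exact hMp (h.trans (Subgroup.relIndex_dvd_card _ _))
  refine ⟨K, Subgroup.characteristic_iff_map_le.2 fun φ => hle _ ?_ ?_, hKp, hle⟩
  · haveI := hKn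
    exact Subgroup.Normal.map inferInstance _ φ.surjective
  · rwa [Subgroup.card_map_of_injective (f := φ.toMonoidHom) φ.injective]

/-- A minimal normal subgroup whose order is divisible exactly once by a prime is simple. -/
theorem isSimpleGroup_of_minimal_normal {G : Type*} [Group G] [Finite G] {D : Subgroup G} [D.Normal]
    (hmin : ∀ H : Subgroup G, H.Normal → H = ⊥ ∨ D ≤ H) {p : ℕ} (hp : p.Prime)
    (h1 : p ∣ Nat.card ↥D) (h2 : ¬ p * p ∣ Nat.card ↥D) : IsSimpleGroup ↥D := by
  classical
  haveI : Fact p.Prime := ⟨hp⟩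
  have hnt : Nontrivial ↥D := by
    rw [← Finite.one_lt_card_iff_nontrivial]
    exact lt_of_lt_of_le hp.one_lt (Nat.le_of_dvd Nat.card_pos h1)
  have hchar : ∀ K : Subgroup ↥D, K.Characteristic → K = ⊥ ∨ K = ⊤ := by
    intro K hK
    refine (hmin (K.map D.subtype) inferInstance).imp
      (fun h => (Subgroup.map_eq_bot_iff_of_injective _ D.subtype_injective).1 h)
      (fun h => Subgroup.map_injective D.subtype_injective ?_)
    rw [← MonoidHom.range_eq_map, Subgroup.range_subtype]
    exact le_antisymm (Subgroup.map_subtype_le K) h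
  refine ⟨fun M hM => ?_⟩
  by_cases hM1 : p ∣ Nat.card ↥M
  · right
    have hidx : ¬ p ∣ M.index := fun h => h2 (by rw [← M.card_mul_index]; exact mul_dvd_mul hM1 h)
    obtain ⟨x, hx⟩ := exists_prime_orderOf_dvd_card' p h1
    have hK : (Subgroup.closure {d : ↥D | d ^ p = 1}).Characteristic := by
      refine Subgroup.characteristic_iff_map_le.2 fun φ => ?_
      rw [MonoidHom.map_closure, Subgroup.closure_le]
      rintro _ ⟨d, hd, rfl⟩
      exact Subgroup.subset_closure (show φ d ^ p = 1 by rw [← map_pow, hd, map_one])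
    have hxK : x ∈ Subgroup.closure {d : ↥D | d ^ p = 1} :=
      Subgroup.subset_closure (by show x ^ p = 1; rw [← hx]; exact pow_orderOf_eq_one x)
    have htop := (hchar _ hK).resolve_left fun h => by
      rw [h, Subgroup.mem_bot] at hxK
      rw [hxK, orderOf_one] at hx
      exact hp.ne_one hx.symm
    rw [eq_top_iff, ← htop, Subgroup.closure_le]
    intro d hd
    have := hM
    rw [SetLike.mem_coe, ← QuotientGroup.eq_one_iff, ← orderOf_eq_one_iff]
    refine ((Nat.dvd_prime hp).1 (orderOf_dvd_of_pow_eq_one (?_ : ((d : ↥D ⧸ M)) ^ p = 1))).resolve_right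
      fun h => hidx ?_
    · rw [← QuotientGroup.mk_pow, hd]; rfl
    · rw [← h]; exact orderOf_dvd_natCard _
  · left
    obtain ⟨K, hK, hKp, hle⟩ := exists_characteristic_coprime ↥D hp
    refine le_bot_iff.1 ((hle M hM hM1).trans (le_of_eq ((hchar K hK).resolve_right ?_)))
    rintro rfl
    exact hKp (by rwa [Subgroup.card_top])

end Cfsg.Agent.Lib.Twisted
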