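import Cfsg.Agent.Lib.Twisted.Ree.G2ThreeTable
import Cfsg.Agent.Lib.Twisted.Ree.MinimalSimple
import Cfsg.Agent.Lib.Twisted.Ree.GroupTools

/-!
The derived subgroup of `²G₂(3)` has order 504 and is simple.
-/

set_option autoImplicit false
set_option maxHeartbeats 400000

namespace Cfsg.Agent.Lib.Twisted.ReeG

open Cfsg.Lie Cfsg.Agent.Lib.Chev Cfsg.Agent.Lib.Twisted Cfsg.Agent.Lib.Twisted.Core
open scoped commutatorElement

variable {K : Type*} [Field K] [Fintype K] [CharP K 3]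

variable (K) in
/-- The element with index `k` of the table. -/
def elT (k : Fin 27) : ↥(chevG2.group K) := wordG checked_G2 (castW K (wT k))

omit [Fintype K] in
theorem elT_eq_reeU (k : Fin 27) : elT K k =
    reeU (3 ^ 0) ((k.val / 9 : ℕ) : K) ((k.val / 3 % 3 : ℕ) : K) ((k.val % 3 : ℕ) : K) := by
  rw [elT, wT, castW_intU (m := 0), Int.cast_natCast, Int.cast_natCast, Int.cast_natCast, reeU]

omit [Fintype K] in
theorem elT_zero : elT K 0 = 1 := by
  rw [elT_eq_reeU]
  simp [reeU, reeWordU, wordG, xG_zero checked_G2 (show g2a < chevG2.nroots by decide),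
    xG_zero checked_G2 (show g2b < chevG2.nroots by decide), xG_zero checked_G2 (show g2ab < chevG2.nroots by decide),
    xG_zero checked_G2 (show g2aab < chevG2.nroots by decide), xG_zero checked_G2 (show g2aaab < chevG2.nroots by decide),
    xG_zero checked_G2 (show g2aaabb < chevG2.nroots by decide)]

omit [Fintype K] in
theorem srt_mul_tail (p q r s u v a b c d : K) :
    srt p q r s u v * srt 0 0 a b c d = srt p q (r + a) (s + b) (u + c) (v + d) := by
  have n8 : (8 : ℕ) < chevG2.nroots := by decide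
  have n9 : (9 : ℕ) < chevG2.nroots := by decide
  have n10 : (10 : ℕ) < chevG2.nroots := by decide
  have n11 : (11 : ℕ) < chevG2.nroots := by decide
  have hc := fun t u : K => commute_tail t u
  simp only [srt_eq, xG_zero checked_G2 (show 6 < chevG2.nroots by decide),
    xG_zero checked_G2 (show 7 < chevG2.nroots by decide), one_mul, mul_assoc]
  congr 2
  set X := xG (K := K) checked_G2
  calc X 8 r * (X 9 s * (X 10 u * (X 11 v * (X 8 a * (X 9 b * (X 10 c * X 11 d))))))
      = X 8 r * (X 8 a * (X 9 s * (X 9 b * (X 10 u * (X 10 c * (X 11 v * X 11 d)))))) := by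
        rw [← mul_assoc (X 11 v) (X 8 a), ← (hc a v).2.1.eq, mul_assoc (X 8 a),
          ← mul_assoc (X 11 v) (X 9 b), ← (hc b v).2.2.2.1.eq, mul_assoc (X 9 b),
          ← mul_assoc (X 11 v) (X 10 c), ← (hc c v).2.2.2.2.eq, mul_assoc (X 10 c),
          ← mul_assoc (X 10 u) (X 8 a), ← (hc a u).1.eq, mul_assoc (X 8 a),
          ← mul_assoc (X 10 u) (X 9 b), ← (hc b u).2.2.1.eq, mul_assoc (X 9 b),
          ← mul_assoc (X 9 s) (X 8 a), ← (commute_8_9 a s).eq, mul_assoc (X 8 a)]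
    _ = _ := by
        simp only [← mul_assoc, X]
        rw [xG_add _ n8, mul_assoc _ (xG checked_G2 9 s), xG_add _ n9, mul_assoc _ (xG checked_G2 10 u),
          xG_add _ n10, mul_assoc _ (xG checked_G2 11 v), xG_add _ n11]

omit [Fintype K] in
theorem reeU_mul_tail (t u v a b : K) :
    reeU (3 ^ 0) t u v * reeU (3 ^ 0) 0 a b = reeU (3 ^ 0) t (u + a) (v + b) := by
  rw [reeU_eq, reeU_eq, reeU_eq]
  simp only [pow_zero, pow_one, zero_mul, ne_eq, OfNat.ofNat_ne_zero, not_false_eq_true, zero_pow, add_zero,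
    srt_mul_tail]
  congr 1 <;> ring

omit [Fintype K] in
theorem elT_word {a b c : Fin 27} (h : constWordsEq chevG2 G2.cert 3 (wT a ++ wT b) (wT c) = true) :
    elT K a * elT K b = elT K c := by
  rw [elT, elT, elT, ← wordG_append, castW, castW, ← List.map_append, ← castW]
  exact wordG_const_eq checked_G2 3 h

omit [Fintype K] in
theorem elT_gen_tail (k : Fin 27) :
    elT K k * elT K (genIdx 1) = elT K ((mulGen 1).getD k.val 0) ∧
      elT K k * elT K (genIdx 2) = elT K ((mulGen 2).getD k.val 0) := by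
  obtain ⟨e1, e2⟩ := mulGen_tail k
  have hk := k.isLt
  have hmod : ∀ n : ℕ, ((n % 3 : ℕ) : K) = n := fun n => (CharP.cast_eq_mod K 3 n).symm
  simp only [elT_eq_reeU, show genIdx 1 = 3 from rfl, show genIdx 2 = 1 from rfl, show ((3 : Fin 27) : ℕ) = 3 from rfl,
    show ((1 : Fin 27) : ℕ) = 1 from rfl, Nat.reduceDiv, Nat.reduceMod, Nat.cast_zero, Nat.cast_one, reeU_mul_tail,
    e1, e2, add_zero]
  have d1 : ∀ a b c : ℕ, b < 3 → c < 3 →
      (a * 9 + b * 3 + c) / 9 = a ∧ (a * 9 + b * 3 + c) / 3 % 3 = b ∧ (a * 9 + b * 3 + c) % 3 = c := by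
    intro a b c _ _; omega
  refine ⟨?_, ?_⟩
  · obtain ⟨f1, f2, f3⟩ := d1 (k.val / 9) ((k.val / 3 % 3 + 1) % 3) (k.val % 3) (by omega) (by omega)
    rw [f1, f2, f3, hmod (k.val / 3 % 3 + 1), Nat.cast_add, Nat.cast_one]
  · obtain ⟨f1, f2, f3⟩ := d1 (k.val / 9) (k.val / 3 % 3) ((k.val % 3 + 1) % 3) (by omega) (by omega)
    rw [f1, f2, f3, hmod (k.val % 3 + 1), Nat.cast_add, Nat.cast_one]

omit [Fintype K] in
theorem elT_word_tail : ∀ (l : List (Fin 3)) (k : Fin 27), (∀ i ∈ l, i ≠ 0) →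
    elT K k * (l.map fun i => elT K (genIdx i)).prod = elT K (mulWord k l)
  | [], k, _ => by simp [mulWord]
  | i :: l, k, h => by
    rw [List.map_cons, List.prod_cons, ← mul_assoc]
    have h0 := h i List.mem_cons_self
    have e : elT K k * elT K (genIdx i) = elT K ((mulGen i).getD k.val 0) := by
      fin_cases i
      exacts [absurd rfl h0, (elT_gen_tail k).1, (elT_gen_tail k).2]
    rw [e, elT_word_tail l _ fun j hj => h j (List.mem_cons_of_mem _ hj)]
    rfl

omit [Fintype K] in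
theorem elT_gen_zero : ∀ (k : Fin 27),
    elT K k * elT K (genIdx 0) = elT K ((mulGen 0).getD k.val 0) := by
  obtain ⟨c1, c2, c3, c4⟩ := word_checks
  obtain ⟨⟨p1, p2⟩, -⟩ := pastX_spec
  suffices h : ∀ n, ∀ k : Fin 27, k.val = n → elT K k * elT K (genIdx 0) = elT K ((mulGen 0).getD k.val 0) from
    fun k => h _ k rfl
  intro n
  induction n using Nat.strong_induction_on with
  | _ n ih =>
    intro k hk
    rcases predT_spec k with h0 | ⟨e1, hlt, hne, e2⟩
    · rcases (by omega : k.val = 0 ∨ k.val = 9 ∨ k.val = 18) with h | h | h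
      · obtain rfl : k = 0 := Fin.ext h
        rw [elT_zero, one_mul]; rfl
      · obtain rfl : k = 9 := Fin.ext h
        exact elT_word c1
      · obtain rfl : k = 18 := Fin.ext h
        exact elT_word c2
    · set k' := (predT k).1
      set i := (predT k).2
      have hi : elT K (genIdx i) * elT K (genIdx 0) =
          elT K 9 * ((pastX i).map fun j => elT K (genIdx j)).prod ∧ ∀ j ∈ pastX i, j ≠ 0 := by
        rcases (by revert hne; generalize i = j; revert j; decide : i = 1 ∨ i = 2) with h | h <;> rw [h]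
        · exact ⟨by rw [elT_word_tail _ _ (by decide), p1]; exact elT_word c3, by decide⟩
        · exact ⟨by rw [elT_word_tail _ _ (by decide), p2]; exact elT_word c4, by decide⟩
      have ek : elT K k = elT K k' * elT K (genIdx i) := by
        rw [← e1]
        rcases (by revert hne; generalize i = j; revert j; decide : i = 1 ∨ i = 2) with h | h <;> rw [h]
        exacts [(elT_gen_tail k').1.symm, (elT_gen_tail k').2.symm]
      rw [ek, mul_assoc, hi.1, ← mul_assoc, show elT K 9 = elT K (genIdx 0) from rfl, ih _ (hk ▸ hlt) k' rfl,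
        elT_word_tail _ _ hi.2, e2]

omit [Fintype K] in
theorem elT_gen (i : Fin 3) (k : Fin 27) : elT K k * elT K (genIdx i) = elT K ((mulGen i).getD k.val 0) := by
  fin_cases i
  exacts [elT_gen_zero k, (elT_gen_tail k).1, (elT_gen_tail k).2]

omit [Fintype K] in
theorem elT_mulWord : ∀ (l : List (Fin 3)) (k : Fin 27),
    elT K k * (l.map fun i => elT K (genIdx i)).prod = elT K (mulWord k l)
  | [], k => by simp [mulWord]
  | i :: l, k => by
    rw [List.map_cons, List.prod_cons, ← mul_assoc, elT_gen, elT_mulWord l]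
    rfl

omit [Fintype K] in
/-- The products of the table and their values. -/
theorem elT_mul (x y : Fin 27) : ∃ z, elT K x * elT K y = elT K z ∧ chiT z = chiT x + chiT y := by
  have key : ∀ (l : List (Fin 3)) (k : Fin 27),
      elT K k * (l.map fun i => elT K (genIdx i)).prod = elT K (mulWord k l) ∧
        chiT (mulWord k l) = chiT k + (l.map fun i => chiT (genIdx i)).sum := by
    intro l
    induction l with
    | nil => intro k; simp [mulWord]
    | cons i l ih =>
      intro k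
      obtain ⟨h1, h2⟩ := ih ((mulGen i).getD k.val 0)
      refine ⟨?_, ?_⟩
      · rw [List.map_cons, List.prod_cons, ← mul_assoc, elT_gen, h1]; rfl
      · rw [show mulWord k (i :: l) = mulWord ((mulGen i).getD k.val 0) l from rfl, h2, chiT_gen,
          List.map_cons, List.sum_cons, add_assoc]
  obtain ⟨a, b, c, e⟩ := exists_gen_word y
  set l := List.replicate a.val (0 : Fin 3) ++ List.replicate b.val 1 ++ List.replicate c.val 2
  obtain ⟨h1, h2⟩ := key l x
  obtain ⟨h3, h4⟩ := key l 0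
  rw [e, elT_zero, one_mul] at h3
  rw [e, show chiT 0 = 0 by decide, zero_add] at h4
  exact ⟨mulWord x l, by rw [← h3, h1], by rw [h2, h4]⟩

omit [Fintype K] in
theorem natCast_inj3 {a b : ℕ} (ha : a < 3) (hb : b < 3) (e : (a : K) = b) : a = b := by
  have h := (CharP.natCast_eq_natCast K 3).1 e
  rwa [Nat.ModEq, Nat.mod_eq_of_lt ha, Nat.mod_eq_of_lt hb] at h

variable (h3 : Fintype.card K = 3)
include h3

omit [CharP K 3] in
theorem pow_theta_three (x : K) : x ^ (3 * (3 ^ 0 * 3 ^ 0)) = x := by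
  have := FiniteField.pow_card x
  rwa [h3] at this

omit [CharP K 3] in
theorem card_units_three : Nat.card Kˣ = 2 * (2 * 0 + 1) := by
  rw [Nat.card_units, Nat.card_eq_fintype_card, h3]

theorem exists_natCast (x : K) : ∃ n : ℕ, n < 3 ∧ x = n := by
  have hb : Function.Bijective (ZMod.castHom dvd_rfl K : ZMod 3 →+* K) := by
    rw [Fintype.bijective_iff_injective_and_card]
    exact ⟨ZMod.castHom_injective K, by rw [ZMod.card, h3]⟩
  obtain ⟨z, rfl⟩ := hb.2 x
  exact ⟨z.val, z.val_lt, by rw [← map_natCast (ZMod.castHom dvd_rfl K : ZMod 3 →+* K), ZMod.natCast_zmod_val]⟩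

theorem elT_injective : Function.Injective (elT K) := fun k l e => by
  rw [elT_eq_reeU, elT_eq_reeU] at e
  obtain ⟨h1, h2, h3'⟩ := reeU_injective (pow_theta_three h3) e
  have hk := k.isLt
  have hl := l.isLt
  have a1 := natCast_inj3 (by omega) (by omega) h1
  have a2 := natCast_inj3 (by omega) (by omega) h2
  have a3 := natCast_inj3 (by omega) (by omega) h3'
  exact Fin.ext (by omega)

variable {σ : ↥(chevG2.group K) →* ↥(chevG2.group K)} (hσ : IsReeSigma (3 ^ 0) σ)
include hσ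

local notation "Fix" => Twist.fixedGroup (twist hσ)

theorem exists_elT {g : GL chevG2.Idx K} (hg : g ∈ chevG2.posUnipotent K) (hf : g ∈ Fix) :
    ∃ k, g = (elT K k : GL chevG2.Idx K) := by
  obtain ⟨t, u, v, rfl⟩ := fixed_unipotent_mem hσ (pow_theta_three h3) hg hf
  obtain ⟨a, ha, rfl⟩ := exists_natCast h3 t
  obtain ⟨b, hb, rfl⟩ := exists_natCast h3 u
  obtain ⟨c, hc, rfl⟩ := exists_natCast h3 v
  refine ⟨⟨9 * a + 3 * b + c, by omega⟩, ?_⟩
  rw [elT_eq_reeU]
  simp only [show (9 * a + 3 * b + c) / 9 = a by omega, show (9 * a + 3 * b + c) / 3 % 3 = b by omega,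
    show (9 * a + 3 * b + c) % 3 = c by omega]

omit [Fintype K] h3 hσ in
theorem elT_mem (k : Fin 27) : (elT K k : GL chevG2.Idx K) ∈ chevG2.posUnipotent K ∧
    (elT K k : GL chevG2.Idx K) ∈ twistedG2 K (3 ^ 0) := by
  rw [elT_eq_reeU]
  exact ⟨reeU_mem_pos _ _ _ _, reeU_mem _ _ _⟩

variable (K) in
omit h3 hσ [Fintype K] [CharP K 3] in
/-- The positive unipotent subgroup of the group. -/
noncomputable def posG3 : Subgroup ↥(twistedG2 K (3 ^ 0)) :=
  (chevG2.posUnipotent K).subgroupOf (twistedG2 K (3 ^ 0))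

theorem exists_index (g : ↥(posG3 K)) : ∃ k, ((g : ↥(twistedG2 K (3 ^ 0))) : GL chevG2.Idx K) = elT K k :=
  exists_elT h3 hσ g.2 ((orbitSys hσ (pow_theta_three h3) (card_units_three h3)).G_le g.1.2)

/-- The character of the positive unipotent subgroup. -/
noncomputable def chiHom3 : ↥(posG3 K) →* Multiplicative (ZMod 3) :=
  MonoidHom.mk' (fun g => Multiplicative.ofAdd (chiT (exists_index h3 hσ g).choose)) fun a b => by
    obtain ⟨z, hz, hv⟩ := elT_mul (K := K) (exists_index h3 hσ a).choose (exists_index h3 hσ b).choose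
    have e1 := congrArg Subtype.val hz
    rw [Subgroup.coe_mul, ← (exists_index h3 hσ a).choose_spec, ← (exists_index h3 hσ b).choose_spec] at e1
    have e : (exists_index h3 hσ (a * b)).choose = z :=
      elT_injective h3 (Subtype.ext ((exists_index h3 hσ (a * b)).choose_spec.symm.trans e1))
    rw [e, hv, ofAdd_add]

theorem chiHom3_apply {g : ↥(posG3 K)} {k : Fin 27}
    (e : ((g : ↥(twistedG2 K (3 ^ 0))) : GL chevG2.Idx K) = elT K k) :
    chiHom3 h3 hσ g = Multiplicative.ofAdd (chiT k) := by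
  have := elT_injective h3 (Subtype.ext ((exists_index h3 hσ g).choose_spec.symm.trans e))
  exact congrArg (fun k => Multiplicative.ofAdd (chiT k)) this

omit h3 hσ [Fintype K] in
theorem ct_neg_conj_gen (i : Fin 3) :
    ct (3 ^ 0) (-1 : Kˣ) * elT K (genIdx i) * (ct (3 ^ 0) (-1 : Kˣ))⁻¹ = elT K (negT (genIdx i)) := by
  rw [elT, elT, ct, conj_wordG checked_G2 (π := id) (c := fun r => (sgnT r : K)) (fun r hr t => ?_) _
    (fun p hp => ?_)]
  · refine Eq.trans ?_ (wordG_const_eq checked_G2 3 (negT_gen_check i))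
    simp [castW, List.map_map, Function.comp_def]
  · refine Subtype.ext ?_
    simp only [Subgroup.coe_mul, Subgroup.coe_inv, coe_torusG, xG, dif_pos hr, id]
    refine (checked_G2.conj_x hr t).trans ?_
    congr 1
    simp only [torusFun, show chevG2.rank = 2 from rfl, Finset.prod_range_succ, Finset.prod_range_zero, one_mul,
      pair_zero, pair_one, pow_zero, pow_one]
    rw [← zpow_add, sgnT]
    split_ifs with hpar
    · rw [Even.neg_one_zpow (Int.even_iff.2 hpar)]; simp
    · rw [Odd.neg_one_zpow (Int.odd_iff.2 (by omega))]; simp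
  · obtain ⟨q, hq, rfl⟩ := List.mem_map.1 hp
    exact wT_lt _ q hq

omit h3 hσ [Fintype K] in
theorem ct_neg_conj (k : Fin 27) :
    ct (3 ^ 0) (-1 : Kˣ) * elT K k * (ct (3 ^ 0) (-1 : Kˣ))⁻¹ = elT K (negT k) := by
  set h := ct (3 ^ 0) (-1 : Kˣ)
  have hgen : ∀ i, h * elT K (genIdx i) * h⁻¹ = ((negGen i).map fun j => elT K (genIdx j)).prod := by
    intro i
    rw [ct_neg_conj_gen i]
    have e := elT_mulWord (K := K) (negGen i) (negT 0)
    rw [(negT_spec 0).2 i, show negT 0 = 0 from rfl, elT_zero, one_mul] at e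
    rw [e]
    congr 2
    fin_cases i <;> rfl
  have key : ∀ (l : List (Fin 3)) (k : Fin 27), h * elT K k * h⁻¹ = elT K (negT k) →
      h * elT K (mulWord k l) * h⁻¹ = elT K (negT (mulWord k l)) := by
    intro l
    induction l with
    | nil => exact fun k hk => hk
    | cons i l ih =>
      intro k hk
      refine ih ((mulGen i).getD k.val 0) ?_
      rw [← elT_gen, show h * (elT K k * elT K (genIdx i)) * h⁻¹ = h * elT K k * h⁻¹ * (h * elT K (genIdx i) * h⁻¹) by
        group, hk, hgen, elT_mulWord, (negT_spec k).2 i]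
  obtain ⟨a, b, c, e⟩ := exists_gen_word k
  rw [← e]
  exact key _ 0 (by rw [show negT 0 = 0 from rfl, elT_zero, mul_one, mul_inv_cancel])

omit h3 hσ [Fintype K] in
theorem ct_one_or_neg_conj {s : Kˣ} (hs : s = 1 ∨ s = -1) (k : Fin 27) :
    ∃ l, ct (3 ^ 0) s * elT K k * (ct (3 ^ 0) s)⁻¹ = elT K l ∧ chiT l = chiT k := by
  rcases hs with rfl | rfl
  · exact ⟨k, by simp [ct_one], rfl⟩
  · exact ⟨negT k, ct_neg_conj k, (negT_spec k).1⟩

theorem chi_torus {t x : ↥(twistedG2 K (3 ^ 0))} (ht : (t : GL chevG2.Idx K) ∈ chevG2.diagonalSubgroup K)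
    (hx : x ∈ posG3 K) : ∃ hm : t * x * t⁻¹ ∈ posG3 K, chiHom3 h3 hσ ⟨_, hm⟩ = chiHom3 h3 hσ ⟨x, hx⟩ := by
  obtain ⟨k, hk⟩ := exists_index h3 hσ ⟨x, hx⟩
  obtain ⟨s, hs⟩ := fixed_torus hσ _ ht (le_fixSub hσ (pow_theta_three h3) t.2)
  have hs1 : s = 1 ∨ s = -1 := by
    have h := pow_card_eq_one' (x := s)
    rw [card_units_three h3] at h
    have : ((s : K)) * (s : K) = 1 := by
      rw [← Units.val_mul, ← pow_two, show 2 = 2 * (2 * 0 + 1) from rfl, h, Units.val_one]
    rcases mul_self_eq_one_iff.1 this with h | h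
    · exact Or.inl (Units.ext h)
    · exact Or.inr (Units.ext h)
  obtain ⟨l, hl, hv⟩ := ct_one_or_neg_conj hs1 k
  have e : ((t * x * t⁻¹ : ↥(twistedG2 K (3 ^ 0))) : GL chevG2.Idx K) = elT K l := by
    rw [Subgroup.coe_mul, Subgroup.coe_mul, Subgroup.coe_inv, hs, hk, ← Subgroup.coe_inv, ← Subgroup.coe_mul,
      ← Subgroup.coe_mul, hl]
  have hm : t * x * t⁻¹ ∈ posG3 K := by
    show ((t * x * t⁻¹ : ↥(twistedG2 K (3 ^ 0))) : GL chevG2.Idx K) ∈ chevG2.posUnipotent K
    rw [e]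
    exact (elT_mem (K := K) l).1
  exact ⟨hm, by rw [chiHom3_apply h3 hσ (g := ⟨_, hm⟩) e, chiHom3_apply h3 hσ (g := ⟨x, hx⟩) hk, hv]⟩

theorem chi_fusion3 (x y : ↥(posG3 K)) (c : ↥(twistedG2 K (3 ^ 0))) (e : c⁻¹ * (x : ↥(twistedG2 K (3 ^ 0))) * c = (y : ↥(twistedG2 K (3 ^ 0)))) :
    chiHom3 h3 hσ y = chiHom3 h3 hσ x := by
  set S := orbitSys hσ (pow_theta_three h3) (card_units_three h3)
  obtain ⟨w, hw, hcan⟩ := OrbitSys.fixed_canonical (T := twist hσ) (S.G_le c.2)
  obtain ⟨n, hnG, hn⟩ := (S.fix_data hw).1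
  obtain ⟨b, hb, u, hu, ec⟩ := hcan n hn (S.G_le hnG)
  have hbG : b ∈ twistedG2 K (3 ^ 0) := S.borel_fixed_le hb
  obtain ⟨v, hv, t, ht, rfl⟩ := OrbitSys.borel_fixed_split hb.1 hb.2
  have hvG : v ∈ twistedG2 K (3 ^ 0) := S.pos_fixed_le hv
  have htG : t ∈ twistedG2 K (3 ^ 0) := S.torus ht
  have huG : u ∈ twistedG2 K (3 ^ 0) := (S.fix_data hw).2.1 hu
  have huU : (⟨u, huG⟩ : ↥(twistedG2 K (3 ^ 0))) ∈ posG3 K := uGrp_le_pos checked_G2 _ hu.1
  set V : ↥(posG3 K) := ⟨⟨v, hvG⟩, hv.1⟩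
  set U : ↥(posG3 K) := ⟨⟨u, huG⟩, huU⟩
  set t' : ↥(twistedG2 K (3 ^ 0)) := ⟨t, htG⟩
  set n' : ↥(twistedG2 K (3 ^ 0)) := ⟨n, hnG⟩
  obtain ⟨hm, hχ⟩ := chi_torus h3 hσ (t := t'⁻¹) (inv_mem ht.1) (V⁻¹ * x * V).2
  have ec' : c = (V : ↥(twistedG2 K (3 ^ 0))) * t' * n' * U := Subtype.ext ec
  have key : n' * (U * y * U⁻¹ : ↥(posG3 K)) * n'⁻¹ = t'⁻¹ * (V⁻¹ * x * V : ↥(posG3 K)) * t'⁻¹⁻¹ := by
    simp only [Subgroup.coe_mul, Subgroup.coe_inv, ← e, ec']
    group
  have hconj : ∀ a b : ↥(posG3 K), chiHom3 h3 hσ (a * b * a⁻¹) = chiHom3 h3 hσ b := fun a b => by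
    rw [map_mul, map_mul, map_inv, mul_inv_cancel_comm]
  have hx' : chiHom3 h3 hσ ⟨_, hm⟩ = chiHom3 h3 hσ x := by
    have h := hconj V⁻¹ x
    rw [inv_inv] at h
    exact hχ.trans h
  obtain ⟨L, hL, rfl⟩ := List.mem_map.1 (List.mem_toFinset.1 ((S.mem_enumSet (orb := [L0]) rfl chkEnum_G2 w).2 hw))
  simp only [List.mem_cons, List.not_mem_nil, or_false] at hL
  rcases hL with rfl | rfl
  · -- the long element: everything is trivial
    have hneg : n * ((U * y * U⁻¹ : ↥(posG3 K)) : GL chevG2.Idx K) * n⁻¹ ∈ chevG2.negUnipotent K := by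
      rw [checked_G2.negUnipotent_eq]
      refine hn.conj_rootGen (S := Fin.val '' _) (image_val_lt _) ?_
        (show _ ∈ Twist.uGrp chevG2 K (wperm checked_G2 (orbWord [L0] [0])) by
          rw [show orbWord [L0] [0] = L0 from rfl, uGrp_eq]; exact (U * y * U⁻¹).2)
      rintro r ⟨r', hr', er⟩
      obtain rfl : r' = r := Fin.ext er
      exact not_le.1 (checked_G2.mem_invs.1 hr').2
    have e1 := congrArg (fun g : ↥(twistedG2 K (3 ^ 0)) => (g : GL chevG2.Idx K)) key
    simp only [Subgroup.coe_mul, Subgroup.coe_inv] at e1 hneg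
    rw [e1] at hneg
    have h1 : t'⁻¹ * (V⁻¹ * x * V : ↥(posG3 K)) * t'⁻¹⁻¹ = 1 := Subtype.ext (Subgroup.mem_bot.1
      (rooted_G2.borel_inf_negUnipotent.le ⟨Subgroup.mem_sup_left hm, by simpa using hneg⟩))
    rw [h1] at key
    have hy1 : (U * y * U⁻¹ : ↥(posG3 K)) = 1 := Subtype.ext (conj_eq_one_iff.1 key)
    rw [← hx', ← hconj U y, hy1]
    exact congrArg (chiHom3 h3 hσ) (Subtype.ext h1.symm)
  · -- a diagonal representative
    have hnd : n ∈ chevG2.diagonalSubgroup K :=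
      Cls.diag_of_one (hh := rooted_G2) (by simpa [orbWord, wperm_nil] using hn)
    obtain ⟨hm2, hχ2⟩ := chi_torus h3 hσ (t := n') hnd (U * y * U⁻¹).2
    rw [← hx', ← hconj U y, ← hχ2]
    exact congrArg (chiHom3 h3 hσ) (Subtype.ext key)

theorem card_three : Nat.card ↥(twistedG2 K (3 ^ 0)) = 1512 := by
  rw [card_eq hσ (pow_theta_three h3) (card_units_three h3), card_units_three h3, Nat.card_eq_fintype_card, h3]
  norm_num

theorem card_posG3 : Nat.card ↥(posG3 K) = 27 := by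
  rw [posG3, ← Subgroup.inf_subgroupOf_right,
    Nat.card_congr (Subgroup.subgroupOfEquivOfLe (inf_le_right : chevG2.posUnipotent K ⊓
      twistedG2 K (3 ^ 0) ≤ _)).toEquiv,
    show twistedG2 K (3 ^ 0) = fixSub σ from (orbitSys hσ (pow_theta_three h3) (card_units_three h3)).eq_fixedGroup,
    card_fixed_pos hσ (pow_theta_three h3), Nat.card_eq_fintype_card, h3]
  norm_num

variable (K) in
omit h3 hσ [Fintype K] [CharP K 3] in
/-- The generator of the quotient by the derived subgroup. -/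
def bEl3 : ↥(twistedG2 K (3 ^ 0)) := ⟨(reeU (3 ^ 0) (0 : K) 1 0 : GL chevG2.Idx K), reeU_mem 0 1 0⟩

theorem bEl3_not_mem : bEl3 K ∉ commutator ↥(twistedG2 K (3 ^ 0)) := by
  intro hb
  have hU : bEl3 K ∈ posG3 K := reeU_mem_pos _ _ _ _
  have h1 := Abelianization.commutator_subset_ker (chiHom3 h3 hσ).transfer hb
  rw [MonoidHom.mem_ker, transfer_of_fusion (chiHom3 h3 hσ) ⟨_, hU⟩ (chi_fusion3 h3 hσ)] at h1
  rw [chiHom3_apply h3 hσ (k := (3 : Fin 27)) (by rw [elT_eq_reeU]; simp [bEl3]),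
    show (posG3 K).index = 56 by
      have e := (posG3 K).index_mul_card
      rw [card_posG3 h3 hσ, card_three h3 hσ] at e
      omega] at h1
  exact absurd h1 (by decide)

theorem posG3_le_sup :
    posG3 K ≤ Subgroup.zpowers (bEl3 K) ⊔ commutator ↥(twistedG2 K (3 ^ 0)) ∧ bEl3 K ^ 3 = 1 := by
  set G := twistedG2 K (3 ^ 0)
  set π : ↥G →* Abelianization ↥G := Abelianization.of
  have hker : (Subgroup.zpowers (π (bEl3 K))).comap π ≤ Subgroup.zpowers (bEl3 K) ⊔ commutator ↥G := by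
    intro g hg
    obtain ⟨i, hi⟩ := Subgroup.mem_zpowers_iff.1 hg
    have h1 : (bEl3 K ^ i)⁻¹ * g ∈ commutator ↥G := by
      rw [← Abelianization.ker_of, MonoidHom.mem_ker, map_mul, map_inv, map_zpow, hi, inv_mul_cancel]
    simpa using mul_mem (Subgroup.mem_sup_left (T := commutator ↥G) (Subgroup.zpow_mem_zpowers (bEl3 K) i))
      (Subgroup.mem_sup_right h1)
  let E : Fin 27 → ↥G := fun k => ⟨elT K k, (elT_mem (K := K) k).2⟩
  have hE : ∀ a b c, elT K a * elT K b = elT K c → π (E a) * π (E b) = π (E c) := fun a b c e => by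
    rw [← map_mul]; exact congrArg π (Subtype.ext (by
      simp only [E, Subgroup.coe_mul]; exact congrArg Subtype.val e))
  have hb : E 3 = bEl3 K := Subtype.ext (by simp [E, bEl3, elT_eq_reeU])
  have hneg : ∀ k, π (E k) = π (E (negT k)) := fun k => by
    have ht := ct_neg_one_mem (K := K) (m := 0)
    have e : E (negT k) = ⟨_, ht⟩ * E k * ⟨_, ht⟩⁻¹ := Subtype.ext (by
      simp only [E, ← ct_neg_conj k, Subgroup.coe_mul, Subgroup.coe_inv])
    rw [e, map_mul, map_mul, map_inv, mul_inv_cancel_comm]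
  have h0 : E 0 = 1 := Subtype.ext (by simp [E, elT_zero])
  have hgen : ∀ i k, π (E k) * π (E (genIdx i)) = π (E ((mulGen i).getD k.val 0)) :=
    fun i k => hE _ _ _ (elT_gen i k)
  have h1 : π (E 1) = 1 := by
    have h := hgen 2 1
    rw [show ((mulGen 2).getD (1 : Fin 27).val 0) = 2 from rfl, show genIdx 2 = 1 from rfl] at h
    rw [show E 2 = E (negT 1) from rfl, ← hneg] at h
    simpa using h
  have h9 : π (E 9) = (π (E 3))⁻¹ := by
    have e : π (E 9) * π (E 9) * π (E 3) = π (E 18) := by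
      rw [show π (E 9) * π (E 9) = π (E 24) from hgen 0 9]
      exact hgen 1 24
    rw [show E 18 = E (negT 9) from rfl, ← hneg, mul_assoc, mul_eq_left] at e
    exact eq_inv_of_mul_eq_one_left e
  have hgens : ∀ i : Fin 3, π (E (genIdx i)) ∈ Subgroup.zpowers (π (bEl3 K)) := by
    intro i
    fin_cases i
    · show π (E 9) ∈ _
      rw [h9, hb]
      exact inv_mem (Subgroup.mem_zpowers _)
    · show π (E 3) ∈ _
      rw [hb]
      exact Subgroup.mem_zpowers _
    · show π (E 1) ∈ _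
      rw [h1]
      exact one_mem _
  have hall : ∀ (l : List (Fin 3)) (k : Fin 27), π (E k) ∈ Subgroup.zpowers (π (bEl3 K)) →
      π (E (mulWord k l)) ∈ Subgroup.zpowers (π (bEl3 K)) := by
    intro l
    induction l with
    | nil => exact fun k hk => hk
    | cons i l ih =>
      intro k hk
      refine ih ((mulGen i).getD k.val 0) ?_
      rw [← hgen]
      exact mul_mem hk (hgens i)
  refine ⟨fun g hg => hker ?_, ?_⟩
  · obtain ⟨k, hk⟩ := exists_index h3 hσ ⟨g, hg⟩
    obtain ⟨a, b, c, e⟩ := exists_gen_word k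
    rw [Subgroup.mem_comap, show g = E k from Subtype.ext hk, ← e]
    exact hall _ 0 (by rw [h0, map_one]; exact one_mem _)
  · have hE2 : ∀ i k, E k * E (genIdx i) = E ((mulGen i).getD k.val 0) := fun i k => Subtype.ext (by
      simp only [E, Subgroup.coe_mul]; exact congrArg Subtype.val (elT_gen i k))
    rw [← hb, pow_three, show E 3 * E 3 = E 6 from hE2 1 3, ← h0]
    exact (show E 3 * E 6 = E 6 * E 3 from by
      rw [show E 6 = E 3 * E 3 from (hE2 1 3).symm, mul_assoc]).trans (hE2 1 6)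

theorem zpowers_sup_commutator3 :
    Subgroup.zpowers (bEl3 K) ⊔ commutator ↥(twistedG2 K (3 ^ 0)) = ⊤ := by
  set G := twistedG2 K (3 ^ 0)
  set M := Subgroup.zpowers (bEl3 K) ⊔ commutator ↥G
  have hN : M.Normal := ⟨fun x hx g => by
    have e : g * x * g⁻¹ = g * x * g⁻¹ * x⁻¹ * x := by group
    rw [e]
    exact mul_mem (Subgroup.mem_sup_right (Subgroup.commutator_mem_commutator (Subgroup.mem_top g)
      (Subgroup.mem_top x))) hx⟩
  rw [eq_top_iff]
  intro g _
  suffices h : G ≤ M.map G.subtype by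
    obtain ⟨g', hg', e⟩ := h g.2
    rwa [← Subtype.ext e]
  have hU : ∀ t u v : K, (reeU (3 ^ 0) t u v : GL chevG2.Idx K) ∈ M.map G.subtype := fun t u v =>
    ⟨⟨_, reeU_mem t u v⟩, (posG3_le_sup h3 hσ).1 (reeU_mem_pos _ _ _ _), rfl⟩
  refine (Subgroup.closure_le _).2 ?_
  rintro y ⟨w, ⟨t, u, v, rfl | rfl⟩, ey⟩ <;> rw [exists_wordG checked_G2 ey]
  · exact hU t u v
  · rw [show wordG checked_G2 (reeWordV (3 ^ 0) t u v) = reeV (3 ^ 0) t u v from rfl, reeV_eq_conj]
    obtain ⟨x', hx', e⟩ := hU t u v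
    refine ⟨⟨_, n0_mem⟩ * x' * ⟨_, n0_mem⟩⁻¹, hN.conj_mem _ hx' _, ?_⟩
    simp only [Subgroup.coe_subtype] at e ⊢
    simp only [Subgroup.coe_mul, Subgroup.coe_inv, e]

theorem card_commutator3 : Nat.card ↥(commutator ↥(twistedG2 K (3 ^ 0))) = 504 := by
  set G := twistedG2 K (3 ^ 0)
  set π : ↥G →* Abelianization ↥G := Abelianization.of
  have hπb : π (bEl3 K) ≠ 1 := fun h => bEl3_not_mem h3 hσ (by
    rwa [← Abelianization.ker_of, MonoidHom.mem_ker])
  have htop : Subgroup.zpowers (π (bEl3 K)) = ⊤ := by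
    have h := congrArg (Subgroup.map π) (zpowers_sup_commutator3 h3 hσ)
    rwa [Subgroup.map_sup, MonoidHom.map_zpowers,
      Subgroup.map_top_of_surjective _ (show Function.Surjective π from QuotientGroup.mk'_surjective _),
      (Subgroup.map_eq_bot_iff _).2 (Abelianization.ker_of _).ge, sup_bot_eq] at h
  have hidx : (commutator ↥G).index = 3 := by
    show Nat.card (Abelianization ↥G) = 3
    have : Fact (Nat.Prime 3) := ⟨Nat.prime_three⟩
    rw [← Subgroup.card_top, ← htop, Nat.card_zpowers]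
    exact orderOf_eq_prime (by rw [← map_pow, (posG3_le_sup h3 hσ).2, map_one]) hπb
  have e := (commutator ↥G).index_mul_card
  rw [hidx, card_three h3 hσ] at e
  omega

theorem normal_cases3 (H : Subgroup ↥(twistedG2 K (3 ^ 0))) (hH : H.Normal) :
    H = ⊥ ∨ commutator ↥(twistedG2 K (3 ^ 0)) ≤ H := by
  set S := orbitSys hσ (pow_theta_three h3) (card_units_three h3)
  refine (@normal_eq_bot_or_surjective _ _ S.bnPair
    (S.irreducible (noSplit hσ (pow_theta_three h3) (card_units_three h3)))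
    (S.normalCore_eq_bot (hasLead hσ (pow_theta_three h3) (card_units_three h3))) H hH).imp_right fun hsurj => ?_
  have := hH
  set B := (chevG2.borelSubgroup K ⊓ twistedG2 K (3 ^ 0)).subgroupOf (twistedG2 K (3 ^ 0))
  have hUB : posG3 K ≤ B := fun g hg => ⟨Subgroup.mem_sup_left hg, g.2⟩
  have hcB : ⁅B, B⁆ ≤ posG3 K := by
    rw [Subgroup.commutator_le]
    intro a ha b hb
    show ((⁅a, b⁆ : ↥(twistedG2 K (3 ^ 0))) : GL chevG2.Idx K) ∈ chevG2.posUnipotent K
    obtain ⟨ua, hua, ta, hta, ea⟩ := rooted_G2.mem_borel_iff.1 ha.1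
    obtain ⟨ub, hub, tb, htb, eb⟩ := rooted_G2.mem_borel_iff.1 hb.1
    have hnorm : ∀ {t u : GL chevG2.Idx K}, t ∈ chevG2.diagonalSubgroup K → u ∈ chevG2.posUnipotent K →
        t * u * t⁻¹ ∈ chevG2.posUnipotent K := fun ht hu =>
      (Subgroup.mem_normalizer_iff.1 (rooted_G2.diagonal_le_normalizer_posUnipotent ht) _).1 hu
    have hcomm : ta * tb = tb * ta := by
      rw [rooted_G2.diagonalSubgroup_eq] at hta htb
      obtain ⟨c, rfl⟩ := hta
      obtain ⟨d, rfl⟩ := htb
      rw [← map_mul, ← map_mul, mul_comm]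
    have e : ua * ta * (ub * tb) * (ua * ta)⁻¹ * (ub * tb)⁻¹ =
        ua * (ta * ub * ta⁻¹) * (tb * ua⁻¹ * tb⁻¹) * ub⁻¹ := by
      calc _ = ua * (ta * ub * ta⁻¹) * (ta * tb * ta⁻¹ * ua⁻¹ * tb⁻¹) * ub⁻¹ := by group
        _ = _ := by rw [hcomm]; group
    have ea' : (a : GL chevG2.Idx K) = ua * ta := ea
    have eb' : (b : GL chevG2.Idx K) = ub * tb := eb
    simp only [commutatorElement_def, Subgroup.coe_mul, Subgroup.coe_inv, ea', eb']
    rw [e]
    exact mul_mem (mul_mem (mul_mem hua (hnorm hta hub)) (hnorm htb (inv_mem hua))) (inv_mem hub)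
  set q := QuotientGroup.mk' H
  have hBtop : B.map q = ⊤ := eq_top_iff.2 fun x _ => by
    obtain ⟨b, rfl⟩ := hsurj x
    exact ⟨_, b.2, rfl⟩
  have hMtop : (posG3 K).map q = ⊤ := by
    rw [eq_top_iff, ← Subgroup.map_top_of_surjective q (QuotientGroup.mk'_surjective H),
      ← zpowers_sup_commutator3 h3 hσ, Subgroup.map_sup, MonoidHom.map_zpowers, sup_le_iff, Subgroup.zpowers_le]
    refine ⟨Subgroup.mem_map_of_mem _ (show bEl3 K ∈ posG3 K from reeU_mem_pos _ _ _ _), ?_⟩
    rw [commutator_def, Subgroup.map_commutator, Subgroup.map_top_of_surjective q (QuotientGroup.mk'_surjective H),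
      ← hBtop, ← Subgroup.map_commutator]
    exact Subgroup.map_mono hcB
  have hU3 : IsPGroup 3 ↥(posG3 K) := IsPGroup.of_card (n := 3) (card_posG3 h3 hσ)
  have hQ : IsPGroup 3 (↥(twistedG2 K (3 ^ 0)) ⧸ H) := by
    have h := hU3.map q
    rw [hMtop] at h
    exact h.of_equiv Subgroup.topEquiv
  have : Fact (Nat.Prime 3) := ⟨Nat.prime_three⟩
  exact commutator_le_of_pGroup_quotient (zpowers_sup_commutator3 h3 hσ) H hQ

theorem simple_commutator3 : IsSimpleGroup ↥(commutator ↥(twistedG2 K (3 ^ 0))) :=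
  isSimpleGroup_of_minimal_normal (normal_cases3 h3 hσ) (p := 7) (by norm_num)
    (by rw [card_commutator3 h3 hσ]; norm_num) (by rw [card_commutator3 h3 hσ]; norm_num)

end Cfsg.Agent.Lib.Twisted.ReeG
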