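import Cfsg.Agent.Lib.Twisted.Ree.G2Sys

/-!
The table of the positive unipotent subgroup of `²G₂(3)`, checked in the kernel.
-/

set_option autoImplicit false

namespace Cfsg.Agent.Lib.Twisted.ReeG

open Cfsg.Lie Cfsg.Agent.Lib.Chev Cfsg.Agent.Lib.Twisted

/-- The word with index `9 t + 3 u + v`. -/
def wT (k : Fin 27) : List (ℕ × ℤ) := intU (k.val / 9 : ℕ) (k.val / 3 % 3 : ℕ) (k.val % 3 : ℕ)

/-- The indices of the three generators. -/
def genIdx : Fin 3 → Fin 27 := ![9, 3, 1]

/-- Right multiplication by the generators. -/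
def mulGen : Fin 3 → List (Fin 27) :=
  ![[9, 10, 11, 14, 12, 13, 16, 17, 15, 24, 25, 26, 20, 18, 19, 22, 23, 21, 4, 5, 3, 6, 7, 8, 2, 0, 1],
    [3, 4, 5, 6, 7, 8, 0, 1, 2, 12, 13, 14, 15, 16, 17, 9, 10, 11, 21, 22, 23, 24, 25, 26, 18, 19, 20],
    [1, 2, 0, 4, 5, 3, 7, 8, 6, 10, 11, 9, 13, 14, 12, 16, 17, 15, 19, 20, 18, 22, 23, 21, 25, 26, 24]]

/-- Right multiplication by a product of generators. -/
def mulWord (k : Fin 27) (l : List (Fin 3)) : Fin 27 := l.foldl (fun x i => (mulGen i).getD x.val 0) k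

/-- The action of the involution of the torus. -/
def negT (k : Fin 27) : Fin 27 :=
  [0, 2, 1, 3, 5, 4, 6, 8, 7, 18, 20, 19, 21, 23, 22, 24, 26, 25, 9, 11, 10, 12, 14, 13, 15, 17, 16].getD k.val 0

/-- The character `u - t²`. -/
def chiT (k : Fin 27) : ZMod 3 := ((k.val / 3 % 3 : ℕ) : ZMod 3) - ((k.val / 9 : ℕ) : ZMod 3) ^ 2

/-- The sign by which the involution of the torus acts on a root. -/
def sgnT (r : ℕ) : ℤ := if (chevG2.cartan 0 r + chevG2.cartan 1 r) % 2 = 0 then 1 else -1

theorem word_checks :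
    constWordsEq chevG2 G2.cert 3 (wT 9 ++ wT 9) (wT 24) = true ∧
    constWordsEq chevG2 G2.cert 3 (wT 18 ++ wT 9) (wT 4) = true ∧
    constWordsEq chevG2 G2.cert 3 (wT 3 ++ wT 9) (wT 14) = true ∧
    constWordsEq chevG2 G2.cert 3 (wT 1 ++ wT 9) (wT 10) = true := by decide +kernel

theorem negT_gen_check : ∀ i : Fin 3,
    constWordsEq chevG2 G2.cert 3 ((wT (genIdx i)).map fun q => (q.1, sgnT q.1 * q.2))
      (wT (negT (genIdx i))) = true := by decide +kernel

/-- Right multiplication by the second and third generator adds to a coordinate. -/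
theorem mulGen_tail : ∀ k : Fin 27,
    (((mulGen 1).getD k.val 0).val = k.val / 9 * 9 + (k.val / 3 % 3 + 1) % 3 * 3 + k.val % 3) ∧
    (((mulGen 2).getD k.val 0).val = k.val / 9 * 9 + k.val / 3 % 3 * 3 + (k.val % 3 + 1) % 3) := by
  decide +kernel

/-- The predecessor of an index in the last nonzero coordinate. -/
def predT (k : Fin 27) : Fin 27 × Fin 3 :=
  if k.val % 3 = 0 then (⟨k.val - 3, by omega⟩, 1) else (⟨k.val - 1, by omega⟩, 2)

/-- The product of generators by which a generator is replaced when the first one moves past it. -/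
def pastX : Fin 3 → List (Fin 3) := ![[0], [1, 2, 2], [2]]

/-- The image of a generator under the involution of the torus. -/
def negGen : Fin 3 → List (Fin 3) := ![[0, 0, 1], [1], [2, 2]]

theorem predT_spec : ∀ k : Fin 27, k.val % 9 = 0 ∨
    ((mulGen (predT k).2).getD (predT k).1.val 0 = k ∧ (predT k).1.val < k.val ∧ (predT k).2 ≠ 0 ∧
      mulWord ((mulGen 0).getD (predT k).1.val 0) (pastX (predT k).2) = (mulGen 0).getD k.val 0) := by
  decide +kernel

theorem pastX_spec : (mulWord 9 (pastX 1) = 14 ∧ mulWord 9 (pastX 2) = 10) ∧ mulWord 9 (negGen 0).tail = 18 := by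
  decide +kernel

theorem negT_spec : ∀ k : Fin 27, chiT (negT k) = chiT k ∧
    ∀ i : Fin 3, mulWord (negT k) (negGen i) = negT ((mulGen i).getD k.val 0) := by decide +kernel

theorem chiT_gen : ∀ i : Fin 3, ∀ k : Fin 27,
    chiT ((mulGen i).getD k.val 0) = chiT k + chiT (genIdx i) := by decide +kernel

theorem exists_gen_word : ∀ k : Fin 27, ∃ a b c : Fin 3,
    mulWord 0 (List.replicate a.val 0 ++ List.replicate b.val 1 ++ List.replicate c.val 2) = k := by
  decide +kernel

theorem wT_lt : ∀ k : Fin 27, ∀ q ∈ wT k, q.1 < chevG2.nroots := by decide +kernel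

end Cfsg.Agent.Lib.Twisted.ReeG
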